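import Groth.Agent.AVAmpleLib.CurveThrough
import Groth.Agent.NormFin.SchemeCurve
import Groth.Agent.DeltaBaseLib.Main
import Groth.Agent.S9833
import Groth.Agent.S0566
import Groth.Agent.S1617
import Groth.Agent.MiscFlat6.NormalLowDim
import Groth.Agent.CurveH0Lib.Smooth
import Groth.Agent.DimFibreLib.Main
import Groth.Agent.WeilExtLib.Smooth
import Groth.Agent.BlowUpLib.RegBlow

/-!
# Curves through points, integral neighbourhoods and étale coordinates
-/

set_option autoImplicit false
set_option linter.style.haveILetI false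
set_option backward.isDefEq.respectTransparency false
set_option backward.isDefEq.respectTransparency.types false
set_option maxHeartbeats 1000000

universe u

open CategoryTheory CategoryTheory.Limits AlgebraicGeometry TopologicalSpace

noncomputable section

namespace RatCurvExt

/-- A point whose local ring is a domain has an integral affine neighbourhood. -/
theorem exists_integral_nbhd {X : Scheme.{u}} [IsLocallyNoetherian X] [IsReduced X] (p : X)
    (hp : IsDomain (X.presheaf.stalk p)) : ∃ V : X.Opens, p ∈ V ∧ IsAffineOpen V ∧ IsIntegral V.toScheme := by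
  classical
  obtain ⟨W, hW, hpW, -⟩ := exists_isAffineOpen_mem_and_subset (x := p) (U := ⊤) trivial
  haveI : IsAffine W.toScheme := hW
  haveI : IsNoetherian W.toScheme := ⟨⟩
  let p' : W.toScheme := ⟨p, hpW⟩
  haveI : IsDomain (W.toScheme.presheaf.stalk p') := (W.stalkIso p').commRingCatIsoToRingEquiv.toMulEquiv.isDomain_iff.2 hp
  let g₀ : W.toScheme := W.toScheme.fromSpecStalk p' ⟨⊥, Ideal.isPrime_bot⟩
  have hcomp : ∀ Z ∈ irreducibleComponents W.toScheme, p' ∈ Z → Z = closure {g₀} := by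
    intro Z hZ hpZ
    obtain ⟨η, hη⟩ := QuasiSober.sober hZ.1 (isClosed_of_mem_irreducibleComponents _ hZ)
    obtain ⟨q, rfl⟩ := W.toScheme.range_fromSpecStalk.ge (hη.specializes hpZ)
    have hsp : g₀ ⤳ W.toScheme.fromSpecStalk p' q :=
      ((PrimeSpectrum.le_iff_specializes ⟨⊥, Ideal.isPrime_bot⟩ q).1 (OrderBot.bot_le q.asIdeal)).map
        (W.toScheme.fromSpecStalk p').continuous
    refine (hZ.eq_of_ge isIrreducible_singleton.closure ?_).symm
    rw [← hη.def]
    exact closure_minimal (Set.singleton_subset_iff.2 hsp.mem_closure) isClosed_closure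
  let bad : Set W.toScheme := ⋃ Z ∈ {Z ∈ irreducibleComponents W.toScheme | p' ∉ Z}, Z
  have hbad : IsClosed bad := Set.Finite.isClosed_biUnion
    ((TopologicalSpace.NoetherianSpace.finite_irreducibleComponents).subset fun Z hZ => hZ.1)
    fun Z hZ => isClosed_of_mem_irreducibleComponents _ hZ.1
  let V₀ : W.toScheme.Opens := ⟨badᶜ, hbad.isOpen_compl⟩
  have hpV : p' ∈ V₀ := fun h => by
    obtain ⟨Z, hZ, hpZ⟩ := Set.mem_iUnion₂.1 h
    exact hZ.2 hpZ
  have hsub : (V₀ : Set W.toScheme) ⊆ closure {g₀} := fun x hx => by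
    have hmem := irreducibleComponent_mem_irreducibleComponents x
    have h1 : p' ∈ irreducibleComponent x := by
      by_contra h
      exact hx (Set.mem_iUnion₂.2 ⟨_, ⟨hmem, h⟩, mem_irreducibleComponent⟩)
    rw [← hcomp _ hmem h1]
    exact mem_irreducibleComponent
  obtain ⟨V₁, hV₁, hpV₁, hV₁le⟩ := exists_isAffineOpen_mem_and_subset (x := p') (U := V₀) hpV
  haveI : Nonempty V₁ := ⟨⟨p', hpV₁⟩⟩
  haveI : IrreducibleSpace V₁.toScheme := by
    have h1 : IsPreirreducible (V₁ : Set W.toScheme) :=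
      IsPreirreducible.open_subset (isIrreducible_singleton (x := g₀)).closure.2 V₁.2 (fun x hx => hsub (hV₁le hx))
    haveI : PreirreducibleSpace V₁.toScheme := Subtype.preirreducibleSpace h1
    exact ⟨‹Nonempty V₁›⟩
  haveI : IsIntegral V₁.toScheme := isIntegral_of_irreducibleSpace_of_isReduced _
  refine ⟨W.ι ''ᵁ V₁, ⟨p', hpV₁, rfl⟩, hV₁.image_of_isOpenImmersion W.ι, ?_⟩
  haveI : Nonempty (W.ι ''ᵁ V₁ : X.Opens) := ⟨⟨p, ⟨p', hpV₁, rfl⟩⟩⟩
  exact isIntegral_of_isOpenImmersion (W.ι.isoImage V₁).inv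

variable {k : Type u} [Field k]

/-- A smooth scheme over a field has étale coordinates near every point. -/
theorem exists_chart {X : Scheme.{u}} (s : X ⟶ Spec (CommRingCat.of k)) [Smooth s] (x : X) :
    ∃ (n : ℕ) (V : X.Opens) (_ : x ∈ V) (e : V.toScheme ⟶ 𝔸(ULift.{u} (Fin n); Spec (CommRingCat.of k))),
      Etale e ∧ e ≫ 𝔸(ULift.{u} (Fin n); Spec (CommRingCat.of k)) ↘ Spec (CommRingCat.of k) = V.ι ≫ s := by
  obtain ⟨U, hU, V, hV, hxV, e, hs⟩ := Smooth.exists_isStandardSmooth s x
  have hUt : U = ⊤ := top_le_iff.1 fun y _ =>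
    (Subsingleton.elim (α := PrimeSpectrum k) (s x) y) ▸ e hxV
  subst hUt
  obtain ⟨n, g, hg, hget⟩ := hs.exists_etale_mvPolynomial
  let ι₀ : k ≃+* Γ(Spec (CommRingCat.of k), ⊤) :=
    (Scheme.ΓSpecIso (CommRingCat.of k)).symm.commRingCatIsoToRingEquiv
  let E : MvPolynomial (ULift.{u} (Fin n)) k ≃+* MvPolynomial (Fin n) Γ(Spec (CommRingCat.of k), ⊤) :=
    (MvPolynomial.renameEquiv k Equiv.ulift).toRingEquiv.trans (MvPolynomial.mapEquiv (Fin n) ι₀)
  let g' : MvPolynomial (ULift.{u} (Fin n)) k →+* Γ(X, V) := g.comp E.toRingHom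
  have hg' : g'.Etale := RingHom.Etale.stableUnderComposition _ _ (RingHom.Etale.of_bijective E.bijective) hget
  haveI : Etale (Spec.map (CommRingCat.ofHom g')) := (HasRingHomProperty.Spec_iff (P := @Etale)).2 hg'
  refine ⟨n, V, hxV, hV.isoSpec.hom ≫ Spec.map (CommRingCat.ofHom g') ≫
    (AffineSpace.SpecIso (ULift.{u} (Fin n)) (CommRingCat.of k)).inv, inferInstance, ?_⟩
  have hC : g'.comp MvPolynomial.C = (s.appLE ⊤ V e).hom.comp (Scheme.ΓSpecIso (CommRingCat.of k)).inv.hom := by
    ext c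
    show g (E (MvPolynomial.C c)) = _
    rw [← hg]
    simp [E, ι₀]
    rfl
  rw [Category.assoc, Category.assoc, AffineSpace.SpecIso_inv_over, ← Spec.map_comp, ← CommRingCat.ofHom_comp]
  rw [show CommRingCat.ofHom (g'.comp MvPolynomial.C) =
    (Scheme.ΓSpecIso (CommRingCat.of k)).inv ≫ s.appLE ⊤ V e from CommRingCat.hom_ext hC, Spec.map_comp]
  have h2 := IsAffineOpen.SpecMap_appLE_fromSpec s (isAffineOpen_top _) hV e
  rw [IsAffineOpen.fromSpec_top, Scheme.isoSpec_Spec_inv] at h2
  rw [h2]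
  exact hV.isoSpec_hom_fromSpec_assoc s

variable [IsAlgClosed k]

/-- Through a closed point passes a smooth curve whose general point lies in a given open set. -/
theorem exists_curve_lift {Y : Scheme.{u}} [IsIntegral Y] (p : Y ⟶ Spec (CommRingCat.of k)) [LocallyOfFiniteType p]
    (y : Y) (hy : IsClosed ({y} : Set Y)) (O : Y.Opens) (hO : (O : Set Y).Nonempty) (hyO : y ∉ O) :
    ∃ (Q : Scheme.{u}) (_ : IsIntegral Q) (a : Q ⟶ Y) (q : Q), Smooth (a ≫ p) ∧ QuasiCompact (a ≫ p) ∧
      topologicalKrullDim Q ≤ 1 ∧ IsClosed ({q} : Set Q) ∧ a q = y ∧ a (genericPoint Q) ∈ O := by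
  obtain ⟨w, hw, hwy, hdim⟩ := AVAmpleLib.exists_curve_not_mem p y hy O.2.isClosed_compl hyO fun h => by
    obtain ⟨z, hz⟩ := hO
    exact (h.ge (Set.mem_univ z)) hz
  have hwO : w ∈ O := not_not.1 hw
  have himm : ∀ v : Y, w ⤳ v → v ⤳ y → v = w ∨ v = y := fun v hwv hvy => by
    by_contra h
    push Not at h
    let cl : ↥(closure ({w} : Set Y)) → IrreducibleCloseds ↥(closure ({w} : Set Y)) :=
      fun z => ⟨closure {z}, isIrreducible_singleton.closure, isClosed_closure⟩
    have hlt : ∀ {a b : ↥(closure ({w} : Set Y))}, a.1 ⤳ b.1 → a ≠ b → cl b < cl a := fun {a b} hab hne => by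
      have hab' : a ⤳ b := (subtype_specializes_iff a b).2 hab
      exact lt_of_le_not_ge (fun c hc => closure_minimal (Set.singleton_subset_iff.2 hab'.mem_closure) isClosed_closure hc)
        (fun hle => hne (hab'.antisymm (specializes_iff_mem_closure.2 (hle (subset_closure rfl)))).eq)
    let A : ↥(closure ({w} : Set Y)) := ⟨w, subset_closure rfl⟩
    let B : ↥(closure ({w} : Set Y)) := ⟨v, hwv.mem_closure⟩
    let C : ↥(closure ({w} : Set Y)) := ⟨y, hwy.mem_closure⟩
    have h1 : cl B < cl A := hlt hwv fun e => h.1 (congrArg Subtype.val e).symm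
    have h2 : cl C < cl B := hlt hvy fun e => h.2 (congrArg Subtype.val e)
    let l : LTSeries (IrreducibleCloseds ↥(closure ({w} : Set Y))) :=
      ((RelSeries.singleton _ (cl C)).snoc (cl B) h2).snoc (cl A) (by simpa using h1)
    have h3 : (2 : WithBot ℕ∞) ≤ topologicalKrullDim ↥(closure ({w} : Set Y)) :=
      le_trans (by simp [l]) (Order.LTSeries.length_le_krullDim l)
    rw [hdim] at h3
    exact absurd h3 (by norm_num)
  have hne : w ≠ y := fun h => hyO (h ▸ hwO)
  have hk : ∀ W : (Spec (CommRingCat.of k)).affineOpens, CAlg.IsNagata Γ(Spec (CommRingCat.of k), W) :=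
    fun W => Groth.Agent.S9833.result (Spec (CommRingCat.of k)) (fun _ : PUnit.{u+1} => ⊤) iSup_const
      (fun _ => isAffineOpen_top _) (fun _ => by
        letI := ((Scheme.ΓSpecIso (CommRingCat.of k)).inv.hom).toAlgebra
        haveI : Algebra.FiniteType k Γ(Spec (CommRingCat.of k), ⊤) :=
          RingHom.FiniteType.of_surjective _ (ConcreteCategory.bijective_of_isIso (Scheme.ΓSpecIso (CommRingCat.of k)).inv).2
        exact Groth.Agent.S0566.result k (DeltaBaseLib.isNagata_of_field k) Γ(Spec (CommRingCat.of k), ⊤)) W.1 W.2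
  haveI : PerfectField k := inferInstance
  obtain ⟨Q, a, hQ, hQa, q, θ, hlft, hqc, hn, hq, hdq, haq, hgen⟩ := NormFinLib.exists_curve hk p hwy hne himm
    ⊤ trivial (fun v _ hv => (hv.mem_closed hy rfl)) (Y.residueField w) (𝟙 _) (RingHom.Finite.id _)
  haveI := hQ; haveI := hlft; haveI := hQa
  haveI : IsLocallyNoetherian Q := LocallyOfFiniteType.isLocallyNoetherian (a ≫ p)
  have hd : topologicalKrullDim Q ≤ 1 := by
    letI : Q.Over (Spec (CommRingCat.of k)) := ⟨a ≫ p⟩
    haveI : LocallyOfFiniteType (Q ↘ Spec (CommRingCat.of k)) := hlft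
    rw [← hdq, ← Groth.Agent.S1617.result k Q q hq, FibDimLib.localDim_of_irreducible (a ≫ p) q]
  refine ⟨Q, hQ, a, q, CurveH0Lib.smooth_of_regular k (a ≫ p) (fun x => ?_), hqc, hd, hq, haq, ?_⟩
  · have hx1 : ringKrullDim (Q.presheaf.stalk x) ≤ 1 := (DimIneqLib.stalk_dim_le_dim x).trans hd
    haveI := hn x
    exact MiscFlat6.isRegularLocalRing_of_normal_dim_le_one _ hx1
  · have h1 := congr($(hgen).base (IsLocalRing.closedPoint Q.functionField))
    rw [Scheme.Hom.comp_apply, Scheme.fromSpecStalk_closedPoint, Scheme.Hom.comp_apply, Scheme.Hom.comp_apply,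
      Scheme.fromSpecResidueField_apply] at h1
    rw [h1]
    exact hwO

end RatCurvExt
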