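import Groth.Agent.AbRegExtLib.Contract
import Groth.Agent.BlowRegLib.ExcPoint
import Groth.Agent.PtBlowLib.Vanish

/-!
# Descent along contractions over an algebraically closed field
-/

set_option autoImplicit false
set_option linter.style.haveILetI false
set_option backward.isDefEq.respectTransparency false
set_option backward.isDefEq.respectTransparency.types false

universe u

open CategoryTheory CategoryTheory.Limits AlgebraicGeometry TopologicalSpace

noncomputable section

namespace RatCurvExt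

variable {k : Type u} [Field k] [IsAlgClosed k]

/-- All morphisms from the projective line are constant. -/
def NoCurve {A : Scheme.{u}} (p : A ⟶ Spec (CommRingCat.of k)) : Prop :=
  ∀ ψ : CohB1.ProjSpace 1 k ⟶ A, ψ ≫ p = CohB1.ProjSpace.toSpec 1 k → ∀ z z', ψ z = ψ z'

/-- The exceptional fibre of the blowing-up of a surface point is the image of a projective line over the base field. -/
theorem exists_line {Y Z : Scheme.{u}} (b : Y ⟶ Z) (σ : Z ⟶ Spec (CommRingCat.of k)) [LocallyOfFiniteType σ]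
    (y : Z) (hy : IsClosed ({y} : Set Z)) [IsRegularLocalRing (Z.presheaf.stalk y)]
    (hd : ringKrullDim (Z.presheaf.stalk y) = 2)
    (hbl : BlowUp.IsBlowUp b (Scheme.IdealSheafData.vanishingIdeal ⟨{y}, hy⟩)) :
    ∃ e : CohB1.ProjSpace 1 k ⟶ Y, e ≫ b ≫ σ = CohB1.ProjSpace.toSpec 1 k ∧ Set.range e = b ⁻¹' {y} := by
  haveI : IsLocallyNoetherian Z := LocallyOfFiniteType.isLocallyNoetherian σ
  obtain ⟨φ, hφ, hφs, -⟩ := BlowRegLib.exc_point y hy 1 (by rw [hd]; norm_num) hbl
  haveI := hφ
  let w := pointOfClosedPoint σ y hy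
  have hw : w ≫ σ = 𝟙 _ := pointOfClosedPoint_comp σ y hy
  have hwy : w (IsLocalRing.closedPoint k) = y := pointOfClosedPoint_apply σ y hy _
  obtain ⟨ρ, hρ⟩ : ∃ ρ : Z.residueField y ⟶ CommRingCat.of k, Spec.map ρ ≫ Z.fromSpecResidueField y = w := by
    rw [← hwy]
    exact ⟨_, Scheme.descResidueField_stalkClosedPointTo_fromSpecResidueField k Z w⟩
  haveI : Surjective (Spec.map (CommRingCat.ofHom ρ.hom)) :=
    ⟨fun z => ⟨(⊥ : PrimeSpectrum k), Subsingleton.elim (α := PrimeSpectrum (Z.residueField y)) _ _⟩⟩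
  haveI : Surjective (Groth.Agent.P1Grp.projG ρ.hom) :=
    MorphismProperty.of_isPullback (Groth.Agent.P1Grp.isPullback_projG ρ.hom).flip inferInstance
  let J := (Scheme.IdealSheafData.vanishingIdeal (⟨{y}, hy⟩ : Closeds Z)).comap b
  refine ⟨Groth.Agent.P1Grp.projG ρ.hom ≫ inv φ ≫ J.subschemeι, ?_, ?_⟩
  · rw [Category.assoc, Category.assoc, ← Category.assoc J.subschemeι b σ, ← hφs]
    simp only [Category.assoc, IsIso.inv_hom_id_assoc]
    rw [← Category.assoc, (Groth.Agent.P1Grp.isPullback_projG ρ.hom).w, Category.assoc]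
    rw [show Spec.map (CommRingCat.ofHom ρ.hom) ≫ Z.fromSpecResidueField y ≫ σ = 𝟙 _ from by
      rw [← Category.assoc, show Spec.map (CommRingCat.ofHom ρ.hom) ≫ Z.fromSpecResidueField y = w from hρ, hw],
      Category.comp_id]
  · have hJ : Set.range J.subschemeι = b ⁻¹' {y} := by
      rw [Scheme.IdealSheafData.range_subschemeι, Scheme.IdealSheafData.support_comap]
      ext z
      show b z ∈ (Scheme.IdealSheafData.vanishingIdeal (⟨{y}, hy⟩ : Closeds Z)).support ↔ _
      rw [← SetLike.mem_coe, Scheme.IdealSheafData.coe_support_vanishingIdeal]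
      rfl
    rw [← hJ]
    refine Set.Subset.antisymm ?_ ?_
    · rintro _ ⟨z, rfl⟩; exact ⟨_, rfl⟩
    · rintro _ ⟨z, rfl⟩
      obtain ⟨z', hz'⟩ := (Groth.Agent.P1Grp.projG ρ.hom).surjective (φ z)
      refine ⟨z', ?_⟩
      show J.subschemeι (inv φ (Groth.Agent.P1Grp.projG ρ.hom z')) = J.subschemeι z
      rw [hz', ← Scheme.Hom.comp_apply φ (inv φ), IsIso.hom_inv_id]
      rfl

/-- Morphisms to schemes without rational curves descend along contractions of surfaces over an algebraically closed field. -/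
theorem descend {A : Scheme.{u}} (p : A ⟶ Spec (CommRingCat.of k)) (hA : NoCurve p) {Y X : Scheme.{u}} (g : Y ⟶ X)
    (hg : Models.IsContractionSeq g) :
    ∀ (σ : X ⟶ Spec (CommRingCat.of k)) [LocallyOfFiniteType σ] (h : Y ⟶ A), h ≫ p = g ≫ σ →
      ∃ h' : X ⟶ A, h' ≫ p = σ ∧ g ≫ h' = h := by
  induction hg with
  | @iso Y X e =>
    intro σ _ h hh
    exact ⟨e.inv ≫ h, by rw [Category.assoc, hh, Iso.inv_hom_id_assoc], Iso.hom_inv_id_assoc _ _⟩
  | @step Y Z X E ι b r hι hE hb hr ih =>
    intro σ _ h hh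
    haveI := hι
    haveI := hb.1
    haveI := hb.2.1
    haveI := ModifLib.isProper_of_contractionSeq r hr
    haveI : IsNoetherian Y := {
      toIsLocallyNoetherian := LocallyOfFiniteType.isLocallyNoetherian b
      toCompactSpace := QuasiCompact.compactSpace_of_compactSpace b }
    obtain ⟨-, -, hsurj, y, hy, hreg, hdim, hbl, hlr, hiso, -, -⟩ := BlowRegLib.contraction_data ι hE b hb
    haveI := hsurj
    haveI := hreg
    haveI := BlowRegLib.isIso_unitToPush hbl hlr
    have hbij : ∀ U : Z.Opens, Function.Bijective (b.app U).hom := fun U =>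
      haveI := CohCmpLib.isIso_app_of_unitToPush b U
      ConcreteCategory.bijective_of_isIso (b.app U)
    obtain ⟨e, he, hrange⟩ := exists_line b (r ≫ σ) y hy (by simpa using hdim) hbl
    have hconst := hA (e ≫ h) (by rw [Category.assoc, hh, Category.assoc b, he])
    obtain ⟨hZ, hhZ, -⟩ := BlanchardLib.existsUnique_desc b h hbij fun z => by
      obtain ⟨x₀, hx₀⟩ := b.surjective z
      refine ⟨h x₀, fun x hx => ?_⟩
      by_cases hz : z = y
      · obtain ⟨x', rfl⟩ := hrange.ge (show x ∈ b ⁻¹' {y} from hx.trans hz)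
        obtain ⟨x₀', rfl⟩ := hrange.ge (show x₀ ∈ b ⁻¹' {y} from hx₀.trans hz)
        exact hconst x' x₀'
      · haveI := hiso
        let O : Z.Opens := ⟨({y} : Set Z)ᶜ, hy.isOpen_compl⟩
        have hinj : Function.Injective (b ∣_ O) := (b ∣_ O).isOpenEmbedding.injective
        have := congrArg (fun x : ↥(b ⁻¹ᵁ O) => x.1) (hinj (a₁ := ⟨x, show b x ∈ O from hx ▸ hz⟩)
          (a₂ := ⟨x₀, show b x₀ ∈ O from hx₀ ▸ hz⟩) (Subtype.ext (by
            rw [morphismRestrict_base_coe, morphismRestrict_base_coe]; exact hx.trans hx₀.symm)))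
        exact congrArg h this
    have hZp : hZ ≫ p = r ≫ σ := by
      refine H0Lib.hom_ext_of_bijective b hbij _ _ ?_
      rw [← Category.assoc, hhZ, hh, Category.assoc]
    obtain ⟨h', hp', hh'⟩ := ih σ hZ hZp
    exact ⟨h', hp', by rw [Category.assoc, hh', hhZ]⟩

end RatCurvExt
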