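import Groth.Agent.RatCurvExtLib.Descend
import Groth.Agent.GenusZeroLib.PSmooth
import Groth.Agent.WeilExtLib.Smooth

/-!
# Exceptional loci of point blowing-ups are connected chains of lines
-/

set_option autoImplicit false
set_option linter.style.haveILetI false
set_option backward.isDefEq.respectTransparency false
set_option backward.isDefEq.respectTransparency.types false

universe u

open CategoryTheory CategoryTheory.Limits AlgebraicGeometry TopologicalSpace

noncomputable section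

namespace RatCurvExt

variable {k : Type u} [Field k] [IsAlgClosed k]

/-- A morphism from a smooth curve extends over a proper morphism. -/
theorem exists_lift_curve {Y Z Q : Scheme.{u}} (b : Y ⟶ Z) [IsProper b] (τ : Q ⟶ Spec (CommRingCat.of k))
    [Smooth τ] [IsIntegral Q] (hQ : topologicalKrullDim Q ≤ 1) (ψ : Q ⟶ Z) (O : Z.Opens) [IsIso (b ∣_ O)]
    (hne : ∃ q, ψ q ∈ O) : ∃ ψ' : Q ⟶ Y, ψ' ≫ b = ψ := by
  haveI : IsLocallyNoetherian Q := LocallyOfFiniteType.isLocallyNoetherian τ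
  have hreg : ∀ x : Q, IsRegularLocalRing (Q.presheaf.stalk x) := fun x => by
    haveI := WeilExtLib.isRegular_stalk_dedekind (R := k) (τ x)
    exact BlowUpLib.isRegularLocalRing_stalk_of_smooth τ x
  obtain ⟨U, -, g', hg', -, hU⟩ := WeilExtLib.exists_extend_proper b ψ (fun y _ => hreg y) (ψ ⁻¹ᵁ O)
    ((ψ ⁻¹ᵁ O).2.dense hne) ((ψ ∣_ O) ≫ inv (b ∣_ O) ≫ (b ⁻¹ᵁ O).ι) (by
      rw [Category.assoc, Category.assoc, ← morphismRestrict_ι b O, IsIso.inv_hom_id_assoc, morphismRestrict_ι])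
  have hU' : (⊤ : Q.Opens) ≤ U := fun x _ => hU x ((DimIneqLib.stalk_dim_le_dim x).trans hQ)
  refine ⟨Q.topIso.inv ≫ Q.homOfLE hU' ≫ g', ?_⟩
  simp only [Category.assoc, hg']
  rw [Scheme.homOfLE_ι_assoc]
  exact Q.topIso.inv_hom_id_assoc ψ

/-- Points over the same point outside the exceptional locus are equal. -/
theorem eq_of_apply_eq_of_isIso {Y Z : Scheme.{u}} (b : Y ⟶ Z) (O : Z.Opens) [IsIso (b ∣_ O)] {x x' : Y}
    (hx : b x ∈ O) (h : b x = b x') : x = x' := by
  have hinj : Function.Injective (b ∣_ O) := (b ∣_ O).isOpenEmbedding.injective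
  exact congrArg (fun x : ↥(b ⁻¹ᵁ O) => x.1) (hinj (a₁ := ⟨x, hx⟩) (a₂ := ⟨x', show b x' ∈ O from h ▸ hx⟩)
    (Subtype.ext (by rw [morphismRestrict_base_coe, morphismRestrict_base_coe]; exact h)))

/-- A closed set which contains every contracted line it meets contains every fibre it meets. -/
theorem fibre_subset_of_contracted {Y X : Scheme.{u}} (g : Y ⟶ X) (hg : Models.IsContractionSeq g) :
    ∀ (σ : X ⟶ Spec (CommRingCat.of k)) [LocallyOfFiniteType σ] (G : Set Y), IsClosed G →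
      (∀ ψ : CohB1.ProjSpace 1 k ⟶ Y, ψ ≫ g ≫ σ = CohB1.ProjSpace.toSpec 1 k → (∀ z z', g (ψ z) = g (ψ z')) →
        ∀ z, ψ z ∈ G → ∀ z', ψ z' ∈ G) →
      ∀ w w' : Y, g w = g w' → w ∈ G → w' ∈ G := by
  induction hg with
  | @iso Y X e =>
    intro σ _ G _ _ w w' h hw
    exact (e.hom.homeomorph.injective h) ▸ hw
  | @step Y Z X E ι b r hι hE hb hr ih =>
    intro σ _ G hG hlines w w' h hw
    haveI := hι
    haveI := hb.1
    haveI := hb.2.1
    haveI := ModifLib.isProper_of_contractionSeq r hr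
    haveI : IsNoetherian Y := {
      toIsLocallyNoetherian := LocallyOfFiniteType.isLocallyNoetherian b
      toCompactSpace := QuasiCompact.compactSpace_of_compactSpace b }
    obtain ⟨-, -, hsurj, y, hy, hreg, hdim, hbl, -, hiso, -, -⟩ := BlowRegLib.contraction_data ι hE b hb
    haveI := hreg
    obtain ⟨e, he, hrange⟩ := exists_line b (r ≫ σ) y hy (by simpa using hdim) hbl
    let O : Z.Opens := ⟨({y} : Set Z)ᶜ, hy.isOpen_compl⟩
    haveI : IsIso (b ∣_ O) := hiso
    have hfib : ∀ x, b x = y → ∀ x', x' ∈ G → b x' = y → x ∈ G := fun x hx x' hx'G hx' => by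
      obtain ⟨t, rfl⟩ := hrange.ge (show x ∈ b ⁻¹' {y} from hx)
      obtain ⟨t', rfl⟩ := hrange.ge (show x' ∈ b ⁻¹' {y} from hx')
      exact hlines e (by rw [Category.assoc b r σ, he]) (fun u u' => congrArg r
        ((hrange.le ⟨u, rfl⟩ : b (e u) = y).trans (hrange.le ⟨u', rfl⟩ : b (e u') = y).symm)) t' hx'G t
    have hsat : ∀ x x', b x = b x' → x' ∈ G → x ∈ G := fun x x' hxx hx' => by
      by_cases hy' : b x = y
      · exact hfib x hy' x' hx' (hxx ▸ hy')
      · exact (eq_of_apply_eq_of_isIso b O hy' hxx) ▸ hx'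
    have key := ih σ (b '' G) (b.isClosedMap G hG) (fun ψ hψ hψc z hz z' => ?_) (b w) (b w') h ⟨w, hw, rfl⟩
    · obtain ⟨v, hv, hvw⟩ := key
      exact hsat w' v hvw.symm hv
    · haveI : Smooth (CohB1.ProjSpace.toSpec 1 k) := GenusZeroLib.smooth_toSpec 1 k
      haveI : IsIntegral (CohB1.ProjSpace 1 k) := GenusZeroLib.isIntegral_projSpace k 1
      by_cases hne : ∃ q, ψ q ∈ O
      · obtain ⟨ψ', hψ'⟩ := exists_lift_curve b (CohB1.ProjSpace.toSpec 1 k)
          (le_of_eq ((GenusZeroLib.dim_projSpace k 1).trans (by norm_num))) ψ O hne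
        obtain ⟨v, hv, hvz⟩ := hz
        have hz' : ψ' z ∈ G := hsat (ψ' z) v (by rw [hvz, ← hψ']; rfl) hv
        refine ⟨ψ' z', hlines ψ' (by rw [Category.assoc b r σ, ← Category.assoc ψ', hψ', hψ]) (fun u u' => by
          rw [Scheme.Hom.comp_apply b r, Scheme.Hom.comp_apply b r, ← Scheme.Hom.comp_apply ψ' b u,
            ← Scheme.Hom.comp_apply ψ' b u', hψ']
          exact hψc u u') z hz' z', ?_⟩
        rw [← hψ']; rfl
      · push Not at hne
        have hc : ∀ q, ψ q = y := fun q => by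
          by_contra hq
          exact hne q hq
        rw [hc z'] at *
        rwa [hc z] at hz

/-- A closed set which contains every line it meets contains every fibre it meets. -/
theorem fibre_subset {Y X : Scheme.{u}} (g : Y ⟶ X) (hg : Models.IsContractionSeq g)
    (σ : X ⟶ Spec (CommRingCat.of k)) [LocallyOfFiniteType σ] (G : Set Y) (hG : IsClosed G)
    (hlines : ∀ ψ : CohB1.ProjSpace 1 k ⟶ Y, ψ ≫ g ≫ σ = CohB1.ProjSpace.toSpec 1 k → ∀ z, ψ z ∈ G → ∀ z', ψ z' ∈ G)
    (w w' : Y) (h : g w = g w') (hw : w ∈ G) : w' ∈ G :=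
  fibre_subset_of_contracted g hg σ G hG (fun ψ hψ _ => hlines ψ hψ) w w' h hw

end RatCurvExt
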