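import Groth.Agent.RatCurvExtLib.Extend
import Groth.Agent.RatCurvExtLib.Lines
import Groth.Agent.RatCurvExtLib.Chart
import Groth.Agent.AbRegExtLib.Global
import Groth.Agent.AlbLib.AlgClosed
import Groth.Agent.DimFieldBCLib.Prod
import Groth.Agent.WeilExtLib.Group
import Groth.Agent.AlgSpLib.TrdegInv
import Groth.Agent.AlgSpLib.ReducedSmooth
import Groth.Agent.PurBirLib.Apps
import Groth.Agent.ProjDegLib.Criterion

/-!
# Exceptional loci of birational morphisms onto smooth varieties are covered by contracted rational curves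
-/

set_option autoImplicit false
set_option linter.style.haveILetI false
set_option backward.isDefEq.respectTransparency false
set_option backward.isDefEq.respectTransparency.types false
set_option maxHeartbeats 1000000

universe u

open CategoryTheory CategoryTheory.Limits MonoidalCategory CartesianMonoidalCategory AlgebraicGeometry TopologicalSpace

noncomputable section

namespace RatCurvExt

variable {k : Type u} [Field k] [IsAlgClosed k]

local notation "cp" => IsLocalRing.closedPoint k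

/-- The source of a sequence of contractions onto an integral scheme is integral. -/
theorem isIntegral_of_seq {Y X : Scheme.{u}} (g : Y ⟶ X) (h : Models.IsContractionSeq g) :
    IsIntegral X → IsIntegral Y := by
  induction h with
  | @iso Y X e =>
    intro hX
    haveI := hX
    haveI : Nonempty Y := ⟨e.inv (genericPoint X)⟩
    exact isIntegral_of_isOpenImmersion e.hom
  | @step Y Z X E ι b r hι hE hb hr ih =>
    intro hX
    haveI := ih hX
    haveI := hι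
    haveI := hb.1
    haveI := hb.2.1
    haveI : IsNoetherian Y := {
      toIsLocallyNoetherian := LocallyOfFiniteType.isLocallyNoetherian b
      toCompactSpace := QuasiCompact.compactSpace_of_compactSpace b }
    obtain ⟨-, -, -, y, hy, hreg, hdim, hbl, -, -, -, -⟩ := BlowRegLib.contraction_data ι hE b hb
    have hne : Scheme.IdealSheafData.vanishingIdeal (⟨{y}, hy⟩ : Closeds Z) ≠ ⊥ := fun h => by
      have h1 : genericPoint Z ∈ ((Scheme.IdealSheafData.vanishingIdeal (⟨{y}, hy⟩ : Closeds Z)).support : Set Z) := by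
        rw [h, Scheme.IdealSheafData.support_bot]; trivial
      rw [Scheme.IdealSheafData.coe_support_vanishingIdeal] at h1
      have h3 : ∀ z : Z, z = genericPoint Z → ringKrullDim (Z.presheaf.stalk z) = 0 := by
        rintro z rfl
        exact ringKrullDim_eq_zero_of_field Z.functionField
      have h2 := h3 y (Set.mem_singleton_iff.1 h1).symm
      rw [hdim] at h2
      exact absurd h2 (by norm_num)
    obtain ⟨hYint, -, -⟩ := BlowUpLib.isIntegral_of_isBlowUp hbl hne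
    exact hYint

/-- Two points in one fibre of a birational morphism onto a smooth variety give a contracted rational curve. -/
theorem exists_line_through {X Y : Scheme.{u}} [IsIntegral X] [IsIntegral Y]
    (s : X ⟶ Spec (CommRingCat.of k)) [Smooth s] [IsSeparated s]
    (p : Y ⟶ Spec (CommRingCat.of k)) [IsProper p]
    (f : Y ⟶ X) (hf : f ≫ s = p) (V₀ : X.Opens) (hV₀ : (V₀ : Set X).Nonempty) [IsIso (f ∣_ V₀)]
    (y y' : Y) (hy : IsClosed ({y} : Set Y)) (hy' : IsClosed ({y'} : Set Y)) (hne : y ≠ y') (hfy : f y = f y') :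
    ∃ ψ : CohB1.ProjSpace 1 k ⟶ Y, ψ ≫ p = CohB1.ProjSpace.toSpec 1 k ∧
      (¬ ∃ z : Y, Set.range ψ ⊆ {z}) ∧ y ∈ Set.range ψ ∧ ∀ z, f (ψ z) = f y := by
  haveI : IsProper (f ≫ s) := hf ▸ ‹IsProper p›
  haveI : IsProper f := IsProper.of_comp f s
  let x := f y
  have hx : IsClosed ({x} : Set X) := by
    have := f.isClosedMap _ hy
    rwa [Set.image_singleton] at this
  have hyV : y ∉ f ⁻¹ᵁ V₀ := fun h => hne (eq_of_apply_eq_of_isIso f V₀ h hfy)
  have hy'V : y' ∉ f ⁻¹ᵁ V₀ := fun h => hne (eq_of_apply_eq_of_isIso f V₀ h hfy.symm).symm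
  have hV₀' : ((f ⁻¹ᵁ V₀ : Y.Opens) : Set Y).Nonempty := by
    obtain ⟨v, hv⟩ := hV₀
    obtain ⟨z, -⟩ := (f ∣_ V₀).surjective ⟨v, hv⟩
    exact ⟨z.1, z.2⟩
  obtain ⟨n, Vc, hxVc, e, he, hes⟩ := exists_chart s x
  haveI := he
  let A := 𝔸(ULift.{u} (Fin n); Spec (CommRingCat.of k))
  let σA : A ⟶ Spec (CommRingCat.of k) := A ↘ Spec (CommRingCat.of k)
  -- the two curves
  obtain ⟨Q₁, hQ₁, a₁, q₁, hs₁, hqc₁, hd₁, hq₁, haq₁, hgen₁⟩ := exists_curve_lift p y hy _ hV₀' hyV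
  obtain ⟨Q₂, hQ₂, a₂, q₂, hs₂, hqc₂, hd₂, hq₂, haq₂, hgen₂⟩ := exists_curve_lift p y' hy' _ hV₀' hy'V
  haveI := hQ₁; haveI := hQ₂; haveI := hs₁; haveI := hs₂
  let O₁ : Q₁.Opens := (a₁ ≫ f) ⁻¹ᵁ Vc
  let O₂ : Q₂.Opens := (a₂ ≫ f) ⁻¹ᵁ Vc
  have hq₁O : q₁ ∈ O₁ := by show f (a₁ q₁) ∈ Vc; rw [haq₁]; exact hxVc
  have hq₂O : q₂ ∈ O₂ := by show f (a₂ q₂) ∈ Vc; rw [haq₂, ← hfy]; exact hxVc
  haveI : Nonempty O₁ := ⟨⟨q₁, hq₁O⟩⟩
  haveI : Nonempty O₂ := ⟨⟨q₂, hq₂O⟩⟩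
  haveI : IsIntegral O₁.toScheme := isIntegral_of_isOpenImmersion O₁.ι
  haveI : IsIntegral O₂.toScheme := isIntegral_of_isOpenImmersion O₂.ι
  let τ₁ : O₁.toScheme ⟶ Spec (CommRingCat.of k) := O₁.ι ≫ a₁ ≫ p
  let τ₂ : O₂.toScheme ⟶ Spec (CommRingCat.of k) := O₂.ι ≫ a₂ ≫ p
  haveI : Smooth τ₁ := inferInstanceAs (Smooth (O₁.ι ≫ a₁ ≫ p))
  haveI : Smooth τ₂ := inferInstanceAs (Smooth (O₂.ι ≫ a₂ ≫ p))
  have hdO₁ : topologicalKrullDim O₁ ≤ 1 := (topologicalKrullDim_subspace_le _ _).trans hd₁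
  have hdO₂ : topologicalKrullDim O₂ ≤ 1 := (topologicalKrullDim_subspace_le _ _).trans hd₂
  let b₁ := WeilExtLib.resTo Vc (O₁.ι ≫ a₁ ≫ f) fun z => z.2
  let b₂ := WeilExtLib.resTo Vc (O₂.ι ≫ a₂ ≫ f) fun z => z.2
  have hb₁ : b₁ ≫ Vc.ι = O₁.ι ≫ a₁ ≫ f := WeilExtLib.resTo_ι _ _ _
  have hb₂ : b₂ ≫ Vc.ι = O₂.ι ≫ a₂ ≫ f := WeilExtLib.resTo_ι _ _ _
  let φ₁ := b₁ ≫ e
  let φ₂ := b₂ ≫ e
  have hφ₁ : φ₁ ≫ σA = τ₁ := by
    simp only [φ₁, σA, Category.assoc]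
    rw [hes, ← Category.assoc, hb₁, Category.assoc, Category.assoc, hf]
  have hφ₂ : φ₂ ≫ σA = τ₂ := by
    simp only [φ₂, σA, Category.assoc]
    rw [hes, ← Category.assoc, hb₂, Category.assoc, Category.assoc, hf]
  have hq₁c : IsClosed ({(⟨q₁, hq₁O⟩ : O₁.toScheme)} : Set O₁.toScheme) := by
    have := hq₁.preimage O₁.ι.continuous
    rwa [show O₁.ι ⁻¹' {q₁} = {(⟨q₁, hq₁O⟩ : O₁.toScheme)} from by ext z; exact ⟨fun h => Subtype.ext h, fun h => congrArg Subtype.val h⟩] at this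
  have hq₂c : IsClosed ({(⟨q₂, hq₂O⟩ : O₂.toScheme)} : Set O₂.toScheme) := by
    have := hq₂.preimage O₂.ι.continuous
    rwa [show O₂.ι ⁻¹' {q₂} = {(⟨q₂, hq₂O⟩ : O₂.toScheme)} from by ext z; exact ⟨fun h => Subtype.ext h, fun h => congrArg Subtype.val h⟩] at this
  let P₁ := pointOfClosedPoint τ₁ _ hq₁c
  let P₂ := pointOfClosedPoint τ₂ _ hq₂c
  have hP₁ : P₁ ≫ τ₁ = 𝟙 _ := pointOfClosedPoint_comp τ₁ _ hq₁c
  have hP₂ : P₂ ≫ τ₂ = 𝟙 _ := pointOfClosedPoint_comp τ₂ _ hq₂c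
  have hP₁q : P₁ cp = ⟨q₁, hq₁O⟩ := pointOfClosedPoint_apply τ₁ _ hq₁c _
  have hP₂q : P₂ cp = ⟨q₂, hq₂O⟩ := pointOfClosedPoint_apply τ₂ _ hq₂c _
  have hPb : P₁ ≫ b₁ = P₂ ≫ b₂ := by
    refine ext_of_apply_closedPoint_eq (Vc.ι ≫ s) ?_ ?_ (Subtype.ext ?_)
    · rw [Category.assoc, ← Category.assoc b₁, hb₁, Category.assoc, Category.assoc, hf]; exact hP₁
    · rw [Category.assoc, ← Category.assoc b₂, hb₂, Category.assoc, Category.assoc, hf]; exact hP₂
    · have e₁ := congr($(hb₁).base (P₁ cp))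
      have e₂ := congr($(hb₂).base (P₂ cp))
      refine (e₁.trans ?_).trans e₂.symm
      show f (a₁ (O₁.ι (P₁ cp))) = f (a₂ (O₂.ι (P₂ cp)))
      rw [hP₁q, hP₂q]
      show f (a₁ q₁) = f (a₂ q₂)
      rw [haq₁, haq₂, hfy]
  -- the surface
  let T₁ : Over (Spec (CommRingCat.of k)) := Over.mk τ₁
  let T₂ : Over (Spec (CommRingCat.of k)) := Over.mk τ₂
  haveI : LocallyOfFiniteType T₁.hom := inferInstanceAs (LocallyOfFiniteType τ₁)
  haveI : LocallyOfFiniteType T₂.hom := inferInstanceAs (LocallyOfFiniteType τ₂)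
  haveI : IsIntegral T₁.left := ‹IsIntegral O₁.toScheme›
  haveI : IsIntegral T₂.left := ‹IsIntegral O₂.toScheme›
  let S₀ := pullback τ₁ τ₂
  haveI : IsIntegral S₀ := AlbLib.isIntegral_tensor T₁ T₂
  let σ₀ : S₀ ⟶ Spec (CommRingCat.of k) := pullback.fst τ₁ τ₂ ≫ τ₁
  haveI : Smooth σ₀ := inferInstanceAs (Smooth (pullback.fst τ₁ τ₂ ≫ τ₁))
  let P := P₁ ≫ φ₁
  have hPφ : P₂ ≫ φ₂ = P := by simp only [P, φ₁, φ₂, ← Category.assoc, hPb]
  let m : S₀ ⟶ A := AffineSpace.homOfVector σ₀ fun i =>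
    (pullback.fst τ₁ τ₂).appTop (φ₁.appTop (AffineSpace.coord (Spec (CommRingCat.of k)) i)) +
      (pullback.snd τ₁ τ₂).appTop (φ₂.appTop (AffineSpace.coord (Spec (CommRingCat.of k)) i)) -
      σ₀.appTop (P.appTop (AffineSpace.coord (Spec (CommRingCat.of k)) i))
  let i₁ : O₁.toScheme ⟶ S₀ := pullback.lift (𝟙 _) (τ₁ ≫ P₂) (by rw [Category.assoc, hP₂, Category.id_comp, Category.comp_id])
  let i₂ : O₂.toScheme ⟶ S₀ := pullback.lift (τ₂ ≫ P₁) (𝟙 _) (by rw [Category.assoc, hP₁, Category.id_comp, Category.comp_id])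
  have hi₁σ : i₁ ≫ σ₀ = τ₁ := by simp only [i₁, σ₀, pullback.lift_fst_assoc, Category.id_comp]
  have hi₂σ : i₂ ≫ σ₀ = τ₂ := by simp only [i₂, σ₀, pullback.lift_fst_assoc, Category.assoc, hP₁, Category.comp_id]
  have hi₁m : i₁ ≫ m = φ₁ := by
    refine AffineSpace.hom_ext ?_ fun i => ?_
    · rw [Category.assoc, AffineSpace.homOfVector_over, hi₁σ]; exact hφ₁.symm
    · rw [Scheme.Hom.comp_appTop, CommRingCat.comp_apply, AffineSpace.homOfVector_appTop_coord, map_sub, map_add]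
      show (i₁ ≫ pullback.fst τ₁ τ₂ ≫ φ₁).appTop _ + (i₁ ≫ pullback.snd τ₁ τ₂ ≫ φ₂).appTop _ -
        (i₁ ≫ σ₀ ≫ P).appTop _ = _
      rw [← Category.assoc i₁ σ₀, hi₁σ, pullback.lift_fst_assoc, pullback.lift_snd_assoc, Category.id_comp,
        Category.assoc, hPφ, add_sub_cancel_right]
  have hi₂m : i₂ ≫ m = φ₂ := by
    refine AffineSpace.hom_ext ?_ fun i => ?_
    · rw [Category.assoc, AffineSpace.homOfVector_over, hi₂σ]; exact hφ₂.symm
    · rw [Scheme.Hom.comp_appTop, CommRingCat.comp_apply, AffineSpace.homOfVector_appTop_coord, map_sub, map_add]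
      show (i₂ ≫ pullback.fst τ₁ τ₂ ≫ φ₁).appTop _ + (i₂ ≫ pullback.snd τ₁ τ₂ ≫ φ₂).appTop _ -
        (i₂ ≫ σ₀ ≫ P).appTop _ = _
      rw [← Category.assoc i₂ σ₀, hi₂σ, pullback.lift_fst_assoc, pullback.lift_snd_assoc, Category.id_comp,
        Category.assoc, show P₁ ≫ φ₁ = P from rfl, add_sub_cancel_left]
  let S' := pullback m e
  haveI : Etale (pullback.fst m e) := MorphismProperty.pullback_fst m e he
  let σ' : S' ⟶ Spec (CommRingCat.of k) := pullback.fst m e ≫ σ₀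
  haveI : Smooth σ' := inferInstanceAs (Smooth (pullback.fst m e ≫ σ₀))
  haveI : IsLocallyNoetherian S' := LocallyOfFiniteType.isLocallyNoetherian σ'
  haveI : IsReduced S' := AlgSpLib.isReduced_of_smooth σ'
  have hd₀ : topologicalKrullDim S₀ ≤ 2 := by
    show topologicalKrullDim ↥(pullback τ₁ τ₂) ≤ 2
    rw [Groth.Agent.DimFieldBCLib.dim_prod τ₁ τ₂]
    exact (add_le_add hdO₁ hdO₂).trans_eq one_add_one_eq_two
  have hd' : topologicalKrullDim S' ≤ 2 := DimFibreLib.dim_le_of_stalks 2 fun z => by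
    rw [AlgSpLib.ringKrullDim_stalk_etale (pullback.fst m e) z]
    exact (DimIneqLib.stalk_dim_le_dim _).trans hd₀
  let l₁ : O₁.toScheme ⟶ S' := pullback.lift i₁ b₁ hi₁m
  let l₂ : O₂.toScheme ⟶ S' := pullback.lift i₂ b₂ hi₂m
  have hPl : P₁ ≫ l₁ = P₂ ≫ l₂ := by
    refine pullback.hom_ext ?_ ?_
    · simp only [l₁, l₂, Category.assoc, pullback.lift_fst]
      refine pullback.hom_ext ?_ ?_
      · simp only [i₁, i₂, Category.assoc, pullback.lift_fst, Category.comp_id]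
        rw [← Category.assoc, hP₂, Category.id_comp]
      · simp only [i₁, i₂, Category.assoc, pullback.lift_snd, Category.comp_id]
        rw [← Category.assoc, hP₁, Category.id_comp]
    · simp only [l₁, l₂, Category.assoc, pullback.lift_snd, hPb]
  let p₀ : S' := l₁ (P₁ cp)
  have hp₀' : l₂ (P₂ cp) = p₀ := congr($(hPl.symm).base cp)
  have hdom : IsDomain (S'.presheaf.stalk p₀) := by
    haveI := WeilExtLib.isRegular_stalk_dedekind (R := k) (σ' p₀)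
    haveI : IsRegularLocalRing (S'.presheaf.stalk p₀) := BlowUpLib.isRegularLocalRing_stalk_of_smooth σ' p₀
    exact CommAlgDim.isDomain_of_isRegularLocalRing _
  obtain ⟨Vs, hpVs, hVs, hVsi⟩ := exists_integral_nbhd p₀ hdom
  haveI := hVsi
  haveI : IsAffine Vs.toScheme := hVs
  let σs : Vs.toScheme ⟶ Spec (CommRingCat.of k) := Vs.ι ≫ σ'
  haveI : Smooth σs := inferInstanceAs (Smooth (Vs.ι ≫ σ'))
  haveI : QuasiCompact σs := inferInstance
  let σX : Vs.toScheme ⟶ X := Vs.ι ≫ pullback.snd m e ≫ Vc.ι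
  have hσX : σX ≫ s = σs := by
    show (Vs.ι ≫ pullback.snd m e ≫ Vc.ι) ≫ s = Vs.ι ≫ pullback.fst m e ≫ σ₀
    rw [Category.assoc, Category.assoc, ← hes, ← Category.assoc (pullback.snd m e), ← pullback.condition,
      Category.assoc, AffineSpace.homOfVector_over]
  let U : Vs.toScheme.Opens := σX ⁻¹ᵁ V₀
  -- the curves on the surface
  let O₁' : O₁.toScheme.Opens := l₁ ⁻¹ᵁ Vs
  let O₂' : O₂.toScheme.Opens := l₂ ⁻¹ᵁ Vs
  have hP₁O : P₁ cp ∈ O₁' := hpVs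
  have hP₂O : P₂ cp ∈ O₂' := by show l₂ (P₂ cp) ∈ Vs; rw [hp₀']; exact hpVs
  haveI : Nonempty O₁' := ⟨⟨_, hP₁O⟩⟩
  haveI : Nonempty O₂' := ⟨⟨_, hP₂O⟩⟩
  haveI : IsIntegral O₁'.toScheme := isIntegral_of_isOpenImmersion O₁'.ι
  haveI : IsIntegral O₂'.toScheme := isIntegral_of_isOpenImmersion O₂'.ι
  let c₁ := WeilExtLib.resTo Vs (O₁'.ι ≫ l₁) fun z => z.2
  let c₂ := WeilExtLib.resTo Vs (O₂'.ι ≫ l₂) fun z => z.2
  have hc₁ : c₁ ≫ σX = O₁'.ι ≫ O₁.ι ≫ a₁ ≫ f := by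
    simp only [c₁, σX]
    rw [WeilExtLib.resTo_ι_assoc, Category.assoc, pullback.lift_snd_assoc, hb₁]
  have hc₂ : c₂ ≫ σX = O₂'.ι ≫ O₂.ι ≫ a₂ ≫ f := by
    simp only [c₂, σX]
    rw [WeilExtLib.resTo_ι_assoc, Category.assoc, pullback.lift_snd_assoc, hb₂]
  have hgO₁ : O₁.ι (O₁'.ι (genericPoint O₁'.toScheme)) = genericPoint Q₁ := by
    rw [genericPoint_eq_of_isOpenImmersion O₁'.ι, genericPoint_eq_of_isOpenImmersion O₁.ι]
  have hgO₂ : O₂.ι (O₂'.ι (genericPoint O₂'.toScheme)) = genericPoint Q₂ := by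
    rw [genericPoint_eq_of_isOpenImmersion O₂'.ι, genericPoint_eq_of_isOpenImmersion O₂.ι]
  have hU₁ : c₁ (genericPoint O₁'.toScheme) ∈ U := by
    show σX (c₁ (genericPoint O₁'.toScheme)) ∈ V₀
    rw [← Scheme.Hom.comp_apply, hc₁]
    simp only [Scheme.Hom.comp_apply, hgO₁]
    exact hgen₁
  have hU₂ : c₂ (genericPoint O₂'.toScheme) ∈ U := by
    show σX (c₂ (genericPoint O₂'.toScheme)) ∈ V₀
    rw [← Scheme.Hom.comp_apply, hc₂]
    simp only [Scheme.Hom.comp_apply, hgO₂]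
    exact hgen₂
  let φ : U.toScheme ⟶ Y := (σX ∣_ V₀) ≫ inv (f ∣_ V₀) ≫ (f ⁻¹ᵁ V₀).ι
  have hφf : φ ≫ f = U.ι ≫ σX := by
    simp only [φ, Category.assoc]
    rw [← morphismRestrict_ι, IsIso.inv_hom_id_assoc, morphismRestrict_ι]
  have hdVs : topologicalKrullDim Vs ≤ 2 := (topologicalKrullDim_subspace_le _ _).trans hd'
  obtain ⟨U', hUU', R, g, h, hg, hh, hgi, -, hag⟩ := exists_resolution p σs hdVs U ⟨_, hU₁⟩ φ
    (by rw [← hf, reassoc_of% hφf, hσX])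
  haveI := hgi
  haveI := ModifLib.isProper_of_contractionSeq g hg
  haveI : IsIntegral R := isIntegral_of_seq g hg ‹_›
  haveI : IsIso (g ∣_ U) := ModifLib.isIso_restrict_of_le g (U := U') hUU'
  have hgU : ((g ⁻¹ᵁ U : R.Opens) : Set R).Nonempty := by
    obtain ⟨z, -⟩ := (g ∣_ U).surjective ⟨_, hU₁⟩
    exact ⟨z.1, z.2⟩
  have hhf : h ≫ f = g ≫ σX := AbRegExt.ext_of_dense s ((g ⁻¹ᵁ U).2.dense hgU)
    (by rw [Category.assoc, hf, hh, Category.assoc, hσX])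
    (by rw [← Category.assoc, hag, Category.assoc, hφf, morphismRestrict_ι_assoc])
  -- lifting the curves
  have lift_curve : ∀ {O : Scheme.{u}} [IsIntegral O] (τ : O ⟶ Spec (CommRingCat.of k)) [Smooth τ]
      (_ : topologicalKrullDim O ≤ 1) (c : O ⟶ Vs.toScheme) (a : O ⟶ Y) (_ : c ≫ σX = a ≫ f)
      (_ : c (genericPoint O) ∈ U) (o : O), ∃ w : R, g w = c o ∧ h w = a o := by
    intro O _ τ _ hdO c a hca hcU o
    obtain ⟨c', hc'⟩ := exists_lift_curve g τ hdO c U ⟨_, hcU⟩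
    have hfac : (c' ≫ h) ≫ f = a ≫ f := by rw [Category.assoc, hhf, reassoc_of% hc', hca]
    let D : O.Opens := (a ≫ f) ⁻¹ᵁ V₀
    have hD : genericPoint O ∈ D := by
      show (a ≫ f) (genericPoint O) ∈ V₀
      rw [← hca]; exact hcU
    have heq : c' ≫ h = a := by
      refine AbRegExt.ext_of_dense p (D.2.dense ⟨_, hD⟩) (by rw [← hf, ← Category.assoc (c' ≫ h), hfac, Category.assoc]) ?_
      have m₁ : ∀ z : D.toScheme, (D.ι ≫ c' ≫ h) z ∈ f ⁻¹ᵁ V₀ := fun z => by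
        show ((c' ≫ h) ≫ f) (D.ι z) ∈ V₀
        rw [hfac]; exact z.2
      have m₂ : ∀ z : D.toScheme, (D.ι ≫ a) z ∈ f ⁻¹ᵁ V₀ := fun z => z.2
      rw [← WeilExtLib.resTo_ι _ _ m₁, ← WeilExtLib.resTo_ι _ _ m₂]
      congr 1
      rw [← cancel_mono (f ∣_ V₀), ← cancel_mono V₀.ι, Category.assoc, Category.assoc, morphismRestrict_ι,
        WeilExtLib.resTo_ι_assoc, WeilExtLib.resTo_ι_assoc, Category.assoc, hfac, Category.assoc]
    exact ⟨c' o, by rw [← Scheme.Hom.comp_apply, hc'], by rw [← Scheme.Hom.comp_apply, heq]⟩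
  obtain ⟨w₁, hgw₁, hhw₁⟩ := lift_curve (O₁'.ι ≫ τ₁) ((topologicalKrullDim_subspace_le _ _).trans hdO₁)
    c₁ (O₁'.ι ≫ O₁.ι ≫ a₁) (by simp only [Category.assoc, hc₁]) hU₁ ⟨_, hP₁O⟩
  obtain ⟨w₂, hgw₂, hhw₂⟩ := lift_curve (O₂'.ι ≫ τ₂) ((topologicalKrullDim_subspace_le _ _).trans hdO₂)
    c₂ (O₂'.ι ≫ O₂.ι ≫ a₂) (by simp only [Category.assoc, hc₂]) hU₂ ⟨_, hP₂O⟩
  have hw₁y : h w₁ = y := by
    rw [hhw₁]; show a₁ (O₁.ι (P₁ cp)) = y
    rw [hP₁q]; exact haq₁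
  have hw₂y : h w₂ = y' := by
    rw [hhw₂]; show a₂ (O₂.ι (P₂ cp)) = y'
    rw [hP₂q]; exact haq₂
  have hgw : g w₁ = g w₂ := by
    rw [hgw₁, hgw₂]
    refine Subtype.ext ?_
    rw [← Scheme.Opens.ι_apply, ← Scheme.Opens.ι_apply, ← Scheme.Hom.comp_apply c₁, ← Scheme.Hom.comp_apply c₂,
      WeilExtLib.resTo_ι, WeilExtLib.resTo_ι]
    exact hp₀'.symm
  by_contra hcon
  refine hne ?_
  rw [← hw₂y]
  refine Eq.symm (Set.mem_singleton_iff.1 (fibre_subset_of_contracted g hg σs (h ⁻¹' {y}) (hy.preimage h.continuous)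
    (fun ψ hψ hψc z hz z' => ?_) w₁ w₂ hgw (show h w₁ = y from hw₁y)))
  by_contra hz'
  refine hcon ⟨ψ ≫ h, by rw [Category.assoc, hh, hψ], fun ⟨v, hv⟩ => hz' ?_, ⟨z, hz⟩, fun t => ?_⟩
  · exact ((hv ⟨z', rfl⟩).trans (hv ⟨z, rfl⟩).symm).trans hz
  · show (h ≫ f) (ψ t) = f y
    rw [hhf, Scheme.Hom.comp_apply, hψc t z, ← Scheme.Hom.comp_apply g σX, ← hhf, Scheme.Hom.comp_apply,
      show h (ψ z) = y from hz]

/-- A closed point with no other point over its image is not exceptional. -/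
theorem exists_isIso_of_unique {X Y : Scheme.{u}} [IsIntegral X] [IsIntegral Y]
    (s : X ⟶ Spec (CommRingCat.of k)) [Smooth s] [IsSeparated s] (p : Y ⟶ Spec (CommRingCat.of k)) [IsProper p]
    (f : Y ⟶ X) (hf : f ≫ s = p) (V₀ : X.Opens) (hV₀ : (V₀ : Set X).Nonempty) [IsIso (f ∣_ V₀)]
    (y : Y) (hy : IsClosed ({y} : Set Y)) (huniq : ∀ y', IsClosed ({y'} : Set Y) → f y' = f y → y' = y) :
    ∃ V : X.Opens, f y ∈ V ∧ IsIso (f ∣_ V) := by
  haveI : IsProper (f ≫ s) := hf ▸ ‹IsProper p›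
  haveI : IsProper f := IsProper.of_comp f s
  haveI : JacobsonSpace Y := LocallyOfFiniteType.jacobsonSpace p
  have hbir : PurBirLib.Bir f := by
    refine PurBirLib.bir_of_open f ⟨f ⁻¹ᵁ V₀, ?_, ?_⟩
    · obtain ⟨v, hv⟩ := hV₀
      obtain ⟨z, -⟩ := (f ∣_ V₀).surjective ⟨v, hv⟩
      exact ⟨z.1, z.2⟩
    · rw [← morphismRestrict_ι]; infer_instance
  have hfib : ∀ y', f y' = f y → y' = y := by
    intro y' hy'
    by_contra hne
    have hx : IsClosed ({f y} : Set X) := by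
      have := f.isClosedMap _ hy
      rwa [Set.image_singleton] at this
    obtain ⟨z, ⟨hz1, hz2⟩, hzc⟩ := nonempty_inter_closedPoints
      (Z := f ⁻¹' {f y} ∩ {y}ᶜ) ⟨y', hy', hne⟩
      ((hx.preimage f.continuous).isLocallyClosed.inter hy.isOpen_compl.isLocallyClosed)
    exact hz2 (huniq z hzc hz1)
  have hqf : f.QuasiFiniteAt y := by
    rw [Scheme.Hom.quasiFiniteAt_iff_isOpen_singleton_asFiber]
    have : ({f.asFiber y} : Set (f.fiber (f y))) = Set.univ := by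
      refine Set.eq_univ_of_forall fun z => Set.mem_singleton_iff.2 ?_
      refine (f.fiberι (f y)).isEmbedding.injective ?_
      rw [f.fiberι_asFiber]
      refine hfib _ ?_
      exact (f.range_fiberι (f y)).le ⟨z, rfl⟩
    rw [this]; exact isOpen_univ
  haveI : IsLocallyNoetherian X := LocallyOfFiniteType.isLocallyNoetherian s
  haveI : IsIntegrallyClosed (X.presheaf.stalk (f y)) := by
    haveI := WeilExtLib.isRegular_stalk_dedekind (R := k) (s (f y))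
    haveI := BlowUpLib.isRegularLocalRing_stalk_of_smooth s (f y)
    exact NormalLib.isIntegrallyClosed_of_isRegularLocalRing _
  exact PurBirLib.exists_isIso_restrict f hbir y ((ConcreteCategory.isIso_iff_bijective _).2
    ⟨PurBirLib.stalkMap_injective f hbir y, PurBirLib.surjective_of_quasiFiniteAt f hbir y hqf⟩)

end RatCurvExt
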