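import Groth.Agent.RatCurvExtLib.Descend
import Groth.Agent.AbRegExtLib.Graph
import Groth.Agent.S7320
import Groth.Agent.WeilExtLib.Smooth
import Groth.Agent.PtBlowLib.Divisorial

/-!
# Rational maps from smooth surfaces to proper schemes
-/

set_option autoImplicit false
set_option linter.style.haveILetI false
set_option backward.isDefEq.respectTransparency false
set_option backward.isDefEq.respectTransparency.types false

universe u

open CategoryTheory CategoryTheory.Limits AlgebraicGeometry TopologicalSpace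

noncomputable section

namespace RatCurvExt

variable {k : Type u} [Field k] [IsAlgClosed k]

/-- A rational map from a smooth surface to a proper scheme becomes a morphism after blowing up points. -/
theorem exists_resolution {A P : Scheme.{u}} (p : A ⟶ Spec (CommRingCat.of k)) [IsProper p]
    (σ : P ⟶ Spec (CommRingCat.of k)) [Smooth σ] [QuasiCompact σ] [IsIntegral P] (hd : topologicalKrullDim P ≤ 2)
    (U : P.Opens) (hU : (U : Set P).Nonempty) (φ : U.toScheme ⟶ A) (hφ : φ ≫ p = U.ι ≫ σ) :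
    ∃ (U' : P.Opens) (hUU' : U ≤ U') (P' : Scheme.{u}) (g : P' ⟶ P) (h : P' ⟶ A),
      Models.IsContractionSeq g ∧ h ≫ p = g ≫ σ ∧ IsIso (g ∣_ U') ∧ (U' : Set P)ᶜ.Finite ∧
      (g ⁻¹ᵁ U).ι ≫ h = (g ∣_ U) ≫ φ := by
  haveI : IsLocallyNoetherian P := LocallyOfFiniteType.isLocallyNoetherian σ
  haveI : CompactSpace P := QuasiCompact.compactSpace_of_compactSpace σ
  haveI : IsNoetherian P := ⟨⟩
  have hreg : ∀ x : P, IsRegularLocalRing (P.presheaf.stalk x) := fun x => by
    haveI := WeilExtLib.isRegular_stalk_dedekind (R := k) (σ x)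
    exact BlowUpLib.isRegularLocalRing_stalk_of_smooth σ x
  obtain ⟨U', hUU', φ', hφ', hres, hcodim⟩ := WeilExtLib.exists_extend_proper p σ (fun y _ => hreg y) U
    (U.2.dense hU) φ hφ
  let T : Set P := (U' : Set P)ᶜ
  have hTc : IsClosed T := U'.2.isClosed_compl
  have hT : ∀ x ∈ T, IsClosed ({x} : Set P) ∧ IsRegularLocalRing (P.presheaf.stalk x) ∧
      ringKrullDim (P.presheaf.stalk x) = 2 := fun x hx => by
    have h2 := WeilExtLib.two_le_of_not_le_one fun h => hx (hcodim x h)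
    exact ⟨PtBlowLib.isClosed_of_two_le hd x h2, hreg x, le_antisymm ((DimIneqLib.stalk_dim_le_dim x).trans hd) h2⟩
  have hTf : T.Finite := PtBlowLib.finite_of_closedPoints hTc fun x hx => (hT x hx).1
  have hTU : (⟨Tᶜ, hTc.isOpen_compl⟩ : P.Opens) = U' := Opens.ext (compl_compl _)
  haveI : IsReduced U'.toScheme := inferInstance
  obtain ⟨G, f, gA, hfp, hfi, hw, hag⟩ := AbRegExt.exists_graphClosure σ p U' φ' hφ'
  haveI := hfp
  obtain ⟨P', g, hg, hgi, l, hl⟩ := Groth.Agent.S7320.result P T hTf hTc hT f (by rw [hTU]; exact hfi)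
  rw [hTU] at hgi
  refine ⟨U', hUU', P', g, l ≫ gA, hg, ?_, hgi, hTf, ?_⟩
  · rw [Category.assoc, hw, ← Category.assoc, hl]
  · let l' : (g ⁻¹ᵁ U).toScheme ⟶ (f ⁻¹ᵁ U').toScheme := IsOpenImmersion.lift (f ⁻¹ᵁ U').ι ((g ⁻¹ᵁ U).ι ≫ l) (by
      rintro _ ⟨x, rfl⟩
      rw [Scheme.Opens.range_ι]
      show f (l x.1) ∈ U'
      rw [← Scheme.Hom.comp_apply, hl]
      exact hUU' x.2)
    have hl' : l' ≫ (f ⁻¹ᵁ U').ι = (g ⁻¹ᵁ U).ι ≫ l := IsOpenImmersion.lift_fac _ _ _
    have hlU : l' ≫ (f ∣_ U') = (g ∣_ U) ≫ P.homOfLE hUU' := by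
      rw [← cancel_mono U'.ι, Category.assoc, morphismRestrict_ι, ← Category.assoc, hl', Category.assoc, hl,
        Category.assoc, Scheme.homOfLE_ι, morphismRestrict_ι]
    rw [← Category.assoc, ← hl', Category.assoc, hag, ← Category.assoc, hlU, Category.assoc, hres]

/-- Rational maps from smooth surfaces to proper schemes without rational curves are morphisms. -/
theorem exists_extend {A P : Scheme.{u}} (p : A ⟶ Spec (CommRingCat.of k)) [IsProper p] (hA : NoCurve p)
    (σ : P ⟶ Spec (CommRingCat.of k)) [Smooth σ] [QuasiCompact σ] [IsIntegral P] (hd : topologicalKrullDim P ≤ 2)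
    (U : P.Opens) (hU : (U : Set P).Nonempty) (φ : U.toScheme ⟶ A) (hφ : φ ≫ p = U.ι ≫ σ) :
    ∃ ψ : P ⟶ A, ψ ≫ p = σ ∧ U.ι ≫ ψ = φ := by
  obtain ⟨U', hUU', P', g, h, hg, hh, hgi, -, hag⟩ := exists_resolution p σ hd U hU φ hφ
  obtain ⟨ψ, hψ, hgψ⟩ := descend p hA g hg σ h hh
  refine ⟨ψ, hψ, ?_⟩
  haveI : IsIso (g ∣_ U) := ModifLib.isIso_restrict_of_le g (U := U') hUU'
  rw [← cancel_epi (g ∣_ U), morphismRestrict_ι_assoc, hgψ, hag]

end RatCurvExt
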