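import Groth.Prelude
import Groth.Agent.GenusZeroLib.PSmooth
import Groth.Agent.GenusZeroLib.PSpace
import Groth.Agent.GradedCechLib.Chart
import Groth.Agent.S16920
import Groth.Agent.AlbLib.AlgClosed
import Groth.Agent.ProjDegLib.Criterion
import Mathlib.RingTheory.PolynomialAlgebra
import Mathlib.RingTheory.Ideal.MinimalPrime.Noetherian
import Mathlib.AlgebraicGeometry.AlgClosed.Basic

/-!
# The countably many polynomial families of rational curves
-/

set_option autoImplicit false
set_option linter.style.haveILetI false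
set_option backward.isDefEq.respectTransparency false
set_option backward.isDefEq.respectTransparency.types false
set_option maxHeartbeats 1000000

universe u

open CategoryTheory CategoryTheory.Limits AlgebraicGeometry TopologicalSpace HomogeneousLocalization

noncomputable section

namespace RatCurvExt

variable {k : Type u} [Field k]

/-- The projective line is covered by affine lines. -/
theorem exists_chart_at (z : CohB1.ProjSpace 1 k) : ∃ j : Spec (CommRingCat.of (Polynomial k)) ⟶ CohB1.ProjSpace 1 k,
    IsOpenImmersion j ∧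
      j ≫ CohB1.ProjSpace.toSpec 1 k = Spec.map (CommRingCat.ofHom (algebraMap k (Polynomial k))) ∧
      z ∈ Set.range j := by
  obtain ⟨i, hi⟩ := TopologicalSpace.Opens.mem_iSup.1
    ((QCohLib.iSup_stdOpen 1 k).ge (trivial : z ∈ (⊤ : (CohB1.ProjSpace 1 k).Opens)))
  let X₀ : MvPolynomial (Fin 2) k := MvPolynomial.X i
  have hX : X₀ ∈ CohB1.polyGrading 1 k 1 := GradedCechLib.X_mem 1 k i
  let c := RingEquiv.ofBijective _ (GenusZeroLib.chartPoly_bijective 1 k i)
  let mv : MvPolynomial (Fin 1) k ≃ₐ[k] Polynomial k := MvPolynomial.uniqueAlgEquiv k (Fin 1)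
  let g : Away (CohB1.polyGrading 1 k) X₀ →+* Polynomial k := mv.toRingEquiv.toRingHom.comp c.symm.toRingHom
  haveI : IsIso (CommRingCat.ofHom g) := (c.symm.trans mv.toRingEquiv).toCommRingCatIso.isIso_hom
  haveI : IsIso (Spec.map (CommRingCat.ofHom g)) := inferInstance
  haveI haw : IsOpenImmersion (Proj.awayι (CohB1.polyGrading 1 k) X₀ hX one_pos) :=
    inferInstanceAs (IsOpenImmersion (Proj.awayι _ _ _ _))
  let j : Spec (CommRingCat.of (Polynomial k)) ⟶ CohB1.ProjSpace 1 k :=
    Spec.map (CommRingCat.ofHom g) ≫ Proj.awayι (CohB1.polyGrading 1 k) X₀ hX one_pos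
  haveI hji : IsOpenImmersion j := @IsOpenImmersion.comp _ _ _ (Spec.map (CommRingCat.ofHom g))
    (Proj.awayι (CohB1.polyGrading 1 k) X₀ hX one_pos) (IsOpenImmersion.of_isIso _) haw
  refine ⟨j, hji, ?_, ?_⟩
  · refine (Category.assoc _ _ _).trans ?_
    show _ ≫ _ ≫ Proj.toSpecZero (CohB1.polyGrading 1 k) ≫ _ = _
    rw [Proj.awayι_toSpecZero_assoc, ← Spec.map_comp, ← Spec.map_comp]
    congr 1
    ext1
    refine RingHom.ext fun r => ?_
    show g (GradedCechLib.cst 1 k X₀ r) = algebraMap k (Polynomial k) r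
    have h1 : GradedCechLib.cst 1 k X₀ r = c (MvPolynomial.C r) := by
      show _ = GenusZeroLib.chartPoly 1 k i (MvPolynomial.C r)
      simp [GenusZeroLib.chartPoly, X₀]
    show mv (c.symm (GradedCechLib.cst 1 k X₀ r)) = _
    rw [h1, RingEquiv.symm_apply_apply, ← MvPolynomial.algebraMap_eq, mv.commutes]
  · have hz : z ∈ (Proj.awayι (CohB1.polyGrading 1 k) X₀ hX one_pos).opensRange := by
      rw [Proj.opensRange_awayι]; exact hi
    obtain ⟨w, rfl⟩ := hz
    obtain ⟨v, rfl⟩ := (Spec.map (CommRingCat.ofHom g)).surjective w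
    exact ⟨v, rfl⟩

/-- The universal polynomial of bounded degree with index `j`. -/
def univPoly (k : Type u) [CommRing k] (n d : ℕ) (j : Fin (n + 1)) :
    Polynomial (MvPolynomial (Fin (n + 1) × Fin (d + 1)) k) :=
  ∑ e : Fin (d + 1), Polynomial.C (MvPolynomial.X (j, e)) * Polynomial.X ^ (e : ℕ)

theorem map_univPoly {n d : ℕ} (j : Fin (n + 1)) (p : Fin (n + 1) → Polynomial k) (hp : (p j).natDegree ≤ d) :
    (univPoly k n d j).map (MvPolynomial.eval fun je => (p je.1).coeff (je.2 : ℕ)) = p j := by
  conv_rhs => rw [Polynomial.as_sum_range_C_mul_X_pow' (p := p j) (Nat.lt_succ_of_le hp), Finset.sum_range]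
  simp [univPoly, Polynomial.map_sum]

attribute [local instance] Polynomial.algebra in
/-- An affine family of rational curves with dense image which moves gives uniruledness. -/
theorem isUniruled_of_family [IsAlgClosed k] {X : Scheme.{u}} (pX : X ⟶ Spec (CommRingCat.of k))
    (R : Type u) [CommRing R] [IsDomain R] [Algebra k R] [Algebra.FiniteType k R] (H : Polynomial R) (hH : H ≠ 0)
    (u : Spec (CommRingCat.of (Localization.Away H)) ⟶ X)
    (hu : u ≫ pX = Spec.map (CommRingCat.ofHom (algebraMap k (Localization.Away H))))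
    (hdom : DenseRange u) (t t' : Spec (CommRingCat.of (Localization.Away H)))
    (htt : Spec.map (CommRingCat.ofHom (algebraMap R (Localization.Away H))) t =
      Spec.map (CommRingCat.ofHom (algebraMap R (Localization.Away H))) t')
    (hne : u t ≠ u t') : MorSch.IsUniruled k pX := by
  let tp := CohB1.ProjSpace.toSpec 1 k
  haveI : IsIntegral (CohB1.ProjSpace 1 k) := GenusZeroLib.isIntegral_projSpace k 1
  obtain ⟨j, hj, hjs, -⟩ := exists_chart_at (k := k) (genericPoint (CohB1.ProjSpace 1 k))
  haveI := hj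
  let m : Spec (CommRingCat.of R) ⟶ Spec (CommRingCat.of k) := Spec.map (CommRingCat.ofHom (algebraMap k R))
  let sA := Spec.map (CommRingCat.ofHom (algebraMap k (Polynomial k)))
  haveI : LocallyOfFiniteType m := (HasRingHomProperty.Spec_iff (P := @LocallyOfFiniteType)).2
    (RingHom.finiteType_algebraMap.2 inferInstance)
  haveI : IsDomain ↥(CommRingCat.of R) := inferInstanceAs (IsDomain R)
  have hvar : MorSch.IsVar k m := ⟨inferInstance, inferInstance, inferInstance, inferInstance⟩
  have sq : IsPullback (Spec.map (CommRingCat.ofHom (Polynomial.mapRingHom (algebraMap k R))))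
      (Spec.map (CommRingCat.ofHom (Polynomial.C : R →+* Polynomial R))) sA m := by
    refine isPullback_SpecMap_of_isPushout _ _ _ _ ?_
    exact CommRingCat.isPushout_of_isPushout k (Polynomial k) R (Polynomial R)
  let κ₁ : Spec (CommRingCat.of (Polynomial R)) ⟶ pullback tp m :=
    sq.isoPullback.hom ≫ pullback.map sA m tp m j (𝟙 _) (𝟙 _) (by rw [Category.comp_id]; exact hjs.symm) (by simp)
  haveI : IsOpenImmersion (pullback.map sA m tp m j (𝟙 _) (𝟙 _) (by rw [Category.comp_id]; exact hjs.symm) (by simp)) :=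
    MorphismProperty.pullbackMap (P := @IsOpenImmersion) hj (inferInstance : IsOpenImmersion (𝟙 _)) hjs.symm (Category.id_comp m).symm
  haveI : IsOpenImmersion κ₁ := inferInstanceAs (IsOpenImmersion (_ ≫ _))
  let κ : Spec (CommRingCat.of (Localization.Away H)) ⟶ pullback tp m :=
    Spec.map (CommRingCat.ofHom (algebraMap (Polynomial R) (Localization.Away H))) ≫ κ₁
  haveI : IsOpenImmersion (Spec.map (CommRingCat.ofHom (algebraMap (Polynomial R) (Localization.Away H)))) :=
    IsOpenImmersion.of_isLocalization H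
  haveI : IsOpenImmersion κ := inferInstanceAs (IsOpenImmersion (_ ≫ κ₁))
  have hκ₁f : κ₁ ≫ pullback.fst tp m ≫ tp = Spec.map (CommRingCat.ofHom (algebraMap k (Polynomial R))) := by
    simp only [κ₁, Category.assoc, pullback.lift_fst_assoc, IsPullback.isoPullback_hom_fst_assoc]
    rw [show j ≫ tp = sA from hjs, ← Spec.map_comp]
    refine congrArg Spec.map (CommRingCat.hom_ext (RingHom.ext fun c => ?_))
    simp
  have hκ₁s : κ₁ ≫ pullback.snd tp m = Spec.map (CommRingCat.ofHom (Polynomial.C : R →+* Polynomial R)) := by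
    simp only [κ₁, Category.assoc, pullback.lift_snd, Category.comp_id, IsPullback.isoPullback_hom_snd]
  haveI : IsIntegral (pullback tp m) := by
    haveI : IsProper tp := ProjDegLib.toSpec_isProper k 1
    haveI : LocallyOfFiniteType (Over.mk tp).hom := inferInstanceAs (LocallyOfFiniteType tp)
    haveI : LocallyOfFiniteType (Over.mk m).hom := inferInstanceAs (LocallyOfFiniteType m)
    haveI : IsIntegral (Over.mk tp).left := inferInstanceAs (IsIntegral (CohB1.ProjSpace 1 k))
    haveI : IsIntegral (Over.mk m).left := inferInstanceAs (IsIntegral (Spec (CommRingCat.of R)))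
    exact AlbLib.isIntegral_tensor (Over.mk tp) (Over.mk m)
  let e : (pullback tp m).PartialMap X :=
    { domain := κ.opensRange
      dense_domain := κ.opensRange.2.dense ⟨κ t, t, rfl⟩
      hom := κ.isoOpensRange.inv ≫ u }
  have hκι : κ.isoOpensRange.hom ≫ κ.opensRange.ι = κ := Scheme.Hom.isoOpensRange_hom_ι κ
  refine ⟨⟨Spec (CommRingCat.of R), m, hvar, e, ?_⟩, ?_, κ.isoOpensRange.hom t, κ.isoOpensRange.hom t', ?_, ?_⟩
  · rw [← cancel_epi κ.isoOpensRange.hom]
    simp only [e, Category.assoc, Iso.hom_inv_id_assoc]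
    rw [hu, ← Category.assoc, hκι]
    simp only [κ, Category.assoc]
    refine Eq.trans ?_ (congrArg (fun q => Spec.map _ ≫ q) hκ₁f).symm
    rw [← Spec.map_comp]
    exact congrArg Spec.map (CommRingCat.hom_ext (IsScalarTower.algebraMap_eq k (Polynomial R) (Localization.Away H)))
  · haveI : IsDominant u := ⟨hdom⟩
    show IsDominant (κ.isoOpensRange.inv ≫ u)
    infer_instance
  · show (κ.opensRange.ι ≫ pullback.snd tp m) (κ.isoOpensRange.hom t) = (κ.opensRange.ι ≫ pullback.snd tp m) (κ.isoOpensRange.hom t')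
    have h1 : κ.isoOpensRange.hom ≫ κ.opensRange.ι ≫ pullback.snd tp m =
        Spec.map (CommRingCat.ofHom (algebraMap R (Localization.Away H))) := by
      rw [← Category.assoc, hκι]
      simp only [κ, Category.assoc, hκ₁s]
      rw [← Spec.map_comp]
      exact congrArg Spec.map (CommRingCat.hom_ext (IsScalarTower.algebraMap_eq R (Polynomial R) (Localization.Away H)).symm)
    rw [← Scheme.Hom.comp_apply, ← Scheme.Hom.comp_apply, h1]
    exact htt
  · show (κ.isoOpensRange.inv ≫ u) (κ.isoOpensRange.hom t) ≠ (κ.isoOpensRange.inv ≫ u) (κ.isoOpensRange.hom t')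
    rw [← Scheme.Hom.comp_apply, ← Scheme.Hom.comp_apply, Iso.hom_inv_id_assoc]
    exact hne

end RatCurvExt
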