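import Groth.Agent.RatCurvExtLib.Extend
import Groth.Agent.RatCurvExtLib.Lines
import Groth.Agent.SquareLib.Curve
import Groth.Agent.VarDimLib.Basic
import Groth.Agent.AlbLib.AlgClosed
import Groth.Agent.DimFieldBCLib.Prod
import Groth.Agent.H0Lib.Field
import Groth.Agent.WeilExtLib.Group

/-!
# Moving pointed curves produce rational curves
-/

set_option autoImplicit false
set_option linter.style.haveILetI false
set_option backward.isDefEq.respectTransparency false
set_option backward.isDefEq.respectTransparency.types false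
set_option maxHeartbeats 1000000

universe u

open CategoryTheory CategoryTheory.Limits MonoidalCategory CartesianMonoidalCategory AlgebraicGeometry TopologicalSpace

noncomputable section

namespace RatCurvExt

variable {k : Type u} [Field k] [IsAlgClosed k]

local notation "cp" => IsLocalRing.closedPoint k

/-- A morphism from a proper variety to an affine scheme takes one value. -/
theorem apply_eq_of_affine {Q W : Scheme.{u}} (τ : Q ⟶ Spec (CommRingCat.of k)) [IsProper τ] [IsIntegral Q] [IsAffine W]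
    (u : Q ⟶ W) (q q' : Spec (CommRingCat.of k) ⟶ Q) (hq : q ≫ τ = 𝟙 _) : u (q' cp) = u (q cp) := by
  haveI : ConnectedSpace Q := inferInstance
  haveI : IsIso τ.appTop := H0Lib.isIso_appTop_of_isAlgClosed τ
  have h1 : τ.appTop ≫ q.appTop = 𝟙 _ := by
    rw [← Scheme.Hom.comp_appTop, hq]
    exact Scheme.Hom.id_appTop
  have h2 : q.appTop ≫ τ.appTop = 𝟙 _ := by
    rw [← cancel_epi τ.appTop, ← Category.assoc, h1, Category.id_comp, Category.comp_id]
  have hu : u = τ ≫ q ≫ u := ext_of_isAffine (by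
    rw [Scheme.Hom.comp_appTop, Scheme.Hom.comp_appTop, Category.assoc, h2, Category.comp_id])
  conv_lhs => rw [hu]
  show u (q (τ (q' cp))) = _
  rw [Subsingleton.elim (α := PrimeSpectrum k) (τ (q' cp)) cp]

/-- **Bend and break for a curve with a fixed point.** -/
theorem exists_factor_fst {X C B : Over (Spec (CommRingCat.of k))} [IsProper X.hom]
    [IsIntegral C.left] [Smooth C.hom] [IsProper C.hom] (hC : topologicalKrullDim C.left ≤ 1)
    [IsIntegral B.left] [IsSeparated B.hom] [LocallyOfFiniteType B.hom] [QuasiCompact B.hom]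
    (hB : topologicalKrullDim B.left ≤ 1)
    (F : C ⊗ B ⟶ X) (c₀ : 𝟙_ (Over (Spec (CommRingCat.of k))) ⟶ C) (p : 𝟙_ (Over (Spec (CommRingCat.of k))) ⟶ X)
    (hfix : lift (toUnit B ≫ c₀) (𝟙 B) ≫ F = toUnit B ≫ p)
    (hth : ∀ ψ : CohB1.ProjSpace 1 k ⟶ X.left, ψ ≫ X.hom = CohB1.ProjSpace.toSpec 1 k →
      ∀ z, ψ z = p.left cp → ∀ z', ψ z' = p.left cp) :
    ∃ G : C ⟶ X, F = fst C B ≫ G := by
  haveI : IsLocallyNoetherian B.left := LocallyOfFiniteType.isLocallyNoetherian B.hom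
  haveI : LocallyOfFinitePresentation B.hom := LocallyOfFinitePresentation.iff_locallyOfFiniteType.2 inferInstance
  -- a smooth open part of the parameter curve
  let O : B.left.Opens := B.hom.smoothLocus
  have hO : genericPoint B.left ∈ O := Scheme.Hom.genericPoint_mem_smoothLocus_of_perfectField B.hom
  haveI : Nonempty O := ⟨⟨_, hO⟩⟩
  haveI : Smooth (O.ι ≫ B.hom) := by
    rw [← Scheme.Hom.smoothLocus_eq_top_iff, ← Scheme.Hom.preimage_smoothLocus_eq, Scheme.Opens.ι_preimage_self]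
  haveI : IsIntegral O.toScheme := isIntegral_of_isOpenImmersion O.ι
  haveI : QuasiCompact (O.ι ≫ B.hom) := by
    haveI : CompactSpace B.left := QuasiCompact.compactSpace_of_compactSpace B.hom
    haveI : IsNoetherian B.left := ⟨⟩
    infer_instance
  obtain ⟨Bb, sb, j, hj, hjs, hsbp, hsbs, hsbi⟩ := SquareLib.exists_completion (O.ι ≫ B.hom)
    ((topologicalKrullDim_subspace_le _ _).trans hB)
  haveI := hj; haveI := hsbp; haveI := hsbs; haveI := hsbi
  haveI : IsIntegral Bb := GeometricallyIntegral.isIntegral_of_subsingleton sb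
  let B0o : Over (Spec (CommRingCat.of k)) := Over.mk (O.ι ≫ B.hom)
  let Bo : Over (Spec (CommRingCat.of k)) := Over.mk sb
  let jo : B0o ⟶ Bo := Over.homMk j hjs
  let io : B0o ⟶ B := Over.homMk O.ι rfl
  haveI : LocallyOfFiniteType B0o.hom := inferInstanceAs (LocallyOfFiniteType (O.ι ≫ B.hom))
  haveI : IsProper Bo.hom := hsbp
  haveI : Smooth Bo.hom := hsbs
  haveI : IsIntegral Bo.left := ‹IsIntegral Bb›
  have hBb : topologicalKrullDim Bb ≤ 1 := by
    rw [← VarDimLib.dim_open_eq sb j.opensRange ⟨j ⟨_, hO⟩, ⟨_, rfl⟩⟩]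
    calc topologicalKrullDim ↥(j.opensRange : Set Bb) = topologicalKrullDim O :=
          (IsHomeomorph.topologicalKrullDim_eq _ j.isOpenEmbedding.isEmbedding.toHomeomorph.isHomeomorph).symm
      _ ≤ 1 := (topologicalKrullDim_subspace_le _ _).trans hB
  -- the surface
  let P := (C ⊗ Bo).left
  let σ : P ⟶ Spec (CommRingCat.of k) := (C ⊗ Bo).hom
  haveI : Smooth σ := inferInstanceAs (Smooth (pullback.fst C.hom Bo.hom ≫ C.hom))
  haveI : IsProper σ := inferInstanceAs (IsProper (pullback.fst C.hom Bo.hom ≫ C.hom))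
  haveI : IsIntegral P := AlbLib.isIntegral_tensor C Bo
  haveI : JacobsonSpace P := LocallyOfFiniteType.jacobsonSpace σ
  have hd : topologicalKrullDim P ≤ 2 := by
    show topologicalKrullDim ↥(pullback C.hom sb) ≤ 2
    rw [Groth.Agent.DimFieldBCLib.dim_prod C.hom sb]
    exact (add_le_add hC hBb).trans_eq one_add_one_eq_two
  let fP : P ⟶ C.left := (fst C Bo).left
  let sP : P ⟶ Bb := (snd C Bo).left
  haveI : IsProper fP := inferInstanceAs (IsProper (pullback.fst C.hom Bo.hom))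
  let U : P.Opens := sP ⁻¹ᵁ j.opensRange
  let Uo : Over (Spec (CommRingCat.of k)) := Over.mk (U.ι ≫ σ)
  let u0 : U.toScheme ⟶ O.toScheme := (sP ∣_ j.opensRange) ≫ j.isoOpensRange.inv
  have hu0 : u0 ≫ j = U.ι ≫ sP := by
    simp only [u0, Category.assoc, Scheme.Hom.isoOpensRange_inv_comp]
    exact morphismRestrict_ι sP j.opensRange
  let uO : Uo ⟶ B0o := Over.homMk u0 (by
    show u0 ≫ O.ι ≫ B.hom = U.ι ≫ σ
    rw [← hjs, ← Category.assoc, hu0, Category.assoc]
    exact congrArg (fun m => U.ι ≫ m) (Over.w (snd C Bo)))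
  let ιU : Uo ⟶ C ⊗ Bo := Over.homMk U.ι rfl
  let φo : Uo ⟶ X := lift (ιU ≫ fst C Bo) (uO ≫ io) ≫ F
  -- points
  have hmemU : ∀ (c : 𝟙_ _ ⟶ C) (b : 𝟙_ _ ⟶ B0o), (lift c (b ≫ jo)).left cp ∈ U := fun c b => by
    have h := congrArg CommaMorphism.left (lift_snd c (b ≫ jo))
    show sP ((lift c (b ≫ jo)).left cp) ∈ j.opensRange
    refine ⟨b.left cp, ?_⟩
    exact (congr($(h).base cp)).symm
  obtain ⟨b₀⟩ : Nonempty (𝟙_ (Over (Spec (CommRingCat.of k))) ⟶ B0o) := by
    haveI : JacobsonSpace O.toScheme := LocallyOfFiniteType.jacobsonSpace B0o.hom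
    obtain ⟨x, -, hx⟩ := nonempty_inter_closedPoints (X := O.toScheme) Set.univ_nonempty isOpen_univ.isLocallyClosed
    exact ⟨AlbLib.ratPt B0o x hx⟩
  have hφU : (U : Set P).Nonempty := ⟨_, hmemU c₀ b₀⟩
  obtain ⟨U', hUU', P', g, h, hg, hh, hgi, -, hag⟩ :=
    exists_resolution X.hom σ hd U hφU φo.left (Over.w φo)
  haveI := hgi
  haveI := ModifLib.isProper_of_contractionSeq g hg
  have hval : ∀ (c : 𝟙_ _ ⟶ C) (b : 𝟙_ _ ⟶ B0o) (z : P'), g z = (lift c (b ≫ jo)).left cp →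
      h z = (lift c (b ≫ io) ≫ F).left cp := by
    intro c b z hz
    have hwm : ∀ t, (lift c (b ≫ jo)).left t ∈ U := fun t => by
      rw [show t = cp from Subsingleton.elim (α := PrimeSpectrum k) _ _]; exact hmemU c b
    let w : 𝟙_ (Over (Spec (CommRingCat.of k))) ⟶ Uo := Over.homMk
      (WeilExtLib.resTo U (lift c (b ≫ jo)).left hwm) (by
        show WeilExtLib.resTo U _ _ ≫ U.ι ≫ σ = _
        rw [WeilExtLib.resTo_ι_assoc]
        exact Over.w (lift c (b ≫ jo)))
    have hw : w ≫ ιU = lift c (b ≫ jo) := Over.OverMorphism.ext (WeilExtLib.resTo_ι U _ hwm)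
    haveI : Mono jo.left := inferInstanceAs (Mono j)
    haveI : Mono jo := Over.mono_of_mono_left jo
    have hwO : w ≫ uO = b := by
      rw [← cancel_mono jo, Category.assoc]
      have e : uO ≫ jo = ιU ≫ snd C Bo := Over.OverMorphism.ext hu0
      rw [e, ← Category.assoc, hw, lift_snd]
    have hwφ : w ≫ φo = lift c (b ≫ io) ≫ F := by
      simp only [φo]
      rw [← Category.assoc, comp_lift, ← Category.assoc, hw, lift_fst, ← Category.assoc w uO, hwO]
    rw [← hwφ]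
    have hzU : g z ∈ U := hz ▸ hmemU c b
    have h1 := congr($(hag).base ⟨z, hzU⟩)
    refine h1.trans ?_
    show φo.left ((g ∣_ U) ⟨z, hzU⟩) = φo.left (w.left cp)
    refine congrArg φo.left (Subtype.ext ?_)
    rw [morphismRestrict_base_coe]
    refine hz.trans ?_
    exact (congr($(congrArg CommaMorphism.left hw).base cp)).symm
  -- the fixed curve is sent to the point
  let xp := p.left cp
  have hxp : IsClosed ({xp} : Set X.left) := ((pointEquivClosedPoint X.hom) ⟨p.left, Over.w p⟩).2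
  let G₀ : Set P' := h ⁻¹' {xp}
  have hG₀ : IsClosed G₀ := hxp.preimage h.continuous
  have hlines : ∀ ψ : CohB1.ProjSpace 1 k ⟶ P', ψ ≫ g ≫ σ = CohB1.ProjSpace.toSpec 1 k →
      ∀ z, ψ z ∈ G₀ → ∀ z', ψ z' ∈ G₀ :=
    fun ψ hψ z hz z' => hth (ψ ≫ h) (by rw [Category.assoc, hh, hψ]) z hz z'
  let σ₀ : Bo ⟶ C ⊗ Bo := lift (toUnit Bo ≫ c₀) (𝟙 Bo)
  have hσ₀j : ∀ b : 𝟙_ _ ⟶ B0o, σ₀.left ((b ≫ jo).left cp) = (lift c₀ (b ≫ jo)).left cp := fun b => by
    have e : (b ≫ jo) ≫ σ₀ = lift c₀ (b ≫ jo) := by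
      simp only [σ₀]
      rw [comp_lift, Category.comp_id, ← Category.assoc, toUnit_unique ((b ≫ jo) ≫ toUnit Bo) (𝟙 _), Category.id_comp]
    rw [← e]; rfl
  have hfix' : ∀ b : 𝟙_ _ ⟶ B, (lift c₀ b ≫ F).left cp = xp := fun b => by
    have e : lift c₀ b = b ≫ lift (toUnit B ≫ c₀) (𝟙 B) := by
      rw [comp_lift, Category.comp_id, ← Category.assoc, toUnit_unique (b ≫ toUnit B) (𝟙 _), Category.id_comp]
    rw [e, Category.assoc, hfix, ← Category.assoc, toUnit_unique (b ≫ toUnit B) (𝟙 _), Category.id_comp]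
  have hsurjU : ∀ x ∈ U, ∃ z, g z = x := fun x hx => by
    obtain ⟨z, hz⟩ := (g ∣_ U').surjective ⟨x, hUU' hx⟩
    exact ⟨z.1, (morphismRestrict_base_coe g U' z).symm.trans (congrArg Subtype.val hz)⟩
  haveI : JacobsonSpace Bb := LocallyOfFiniteType.jacobsonSpace sb
  haveI : JacobsonSpace Bo.left := ‹JacobsonSpace Bb›
  have hslice : ∀ β : Bb, σ₀.left β ∈ g '' G₀ := by
    intro β
    have hcl : IsClosed (σ₀.left ⁻¹' (g '' G₀)) := (g.isClosedMap _ hG₀).preimage σ₀.left.continuous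
    by_contra hβ
    haveI : IrreducibleSpace Bb := inferInstance
    obtain ⟨γ, ⟨hγ1, hγ2⟩, hγc⟩ := nonempty_inter_closedPoints
      (nonempty_preirreducible_inter hcl.isOpen_compl j.opensRange.2 ⟨β, hβ⟩ ⟨j ⟨_, hO⟩, ⟨_, rfl⟩⟩)
      ((hcl.isOpen_compl.inter j.opensRange.2).isLocallyClosed)
    obtain ⟨γ', rfl⟩ := hγ2
    have hγ'c : IsClosed ({γ'} : Set O.toScheme) := by
      have := (show IsClosed ({j γ'} : Set Bb) from hγc).preimage j.continuous
      rwa [← Set.image_singleton, Set.preimage_image_eq _ j.isOpenEmbedding.injective] at this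
    let b := AlbLib.ratPt B0o γ' hγ'c
    have hb : (b ≫ jo).left cp = j γ' := congrArg j (AlbLib.ratPt_apply B0o γ' hγ'c cp)
    obtain ⟨z, hz⟩ := hsurjU _ (hmemU c₀ b)
    refine hγ1 ⟨z, ?_, ?_⟩
    · exact (hval c₀ b z hz).trans (hfix' _)
    · rw [hz, ← hσ₀j, hb]
  have hrange0 : ∀ x : P, fP x = c₀.left cp → ∃ β : Bb, σ₀.left β = x := by
    intro x hx
    have sq := H0Lib.isPullback_lift_left (Z := Bo) c₀
    have h1 : Set.range σ₀.left = fP ⁻¹' Set.range c₀.left := by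
      rw [← sq.isoPullback_hom_fst, Scheme.Hom.comp_base, TopCat.coe_comp, Set.range_comp,
        sq.isoPullback.hom.surjective.range_eq, Set.image_univ, Scheme.Pullback.range_fst]
      rfl
    exact h1.ge ⟨cp, hx.symm⟩
  obtain ⟨W, hW, hxpW, -⟩ := exists_isAffineOpen_mem_and_subset (x := xp) (U := ⊤) trivial
  haveI : IsAffine W.toScheme := hW
  let Bad : Set P := g '' (h ⁻¹' (W : Set X.left)ᶜ)
  have hBad : IsClosed Bad := g.isClosedMap _ (W.2.isClosed_compl.preimage h.continuous)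
  let N : C.left.Opens := ⟨(fP '' Bad)ᶜ, (fP.isClosedMap _ hBad).isOpen_compl⟩
  have hc₀N : c₀.left cp ∈ N := by
    rintro ⟨x, ⟨w, hw, rfl⟩, hx⟩
    obtain ⟨β, hβ⟩ := hrange0 (g w) hx
    obtain ⟨v, hv, hvw⟩ := hslice β
    exact hw (show h w ∈ W from (show h w = xp from fibre_subset g hg σ G₀ hG₀ hlines v w (hvw.trans hβ) hv) ▸ hxpW)
  -- the comparison
  let Gm : C ⟶ X := lift (𝟙 C) (toUnit C ≫ b₀ ≫ io) ≫ F
  have hpt : ∀ (c : 𝟙_ _ ⟶ C) (b : 𝟙_ _ ⟶ B0o), c.left cp ∈ N →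
      (lift c (b ≫ io) ≫ F).left cp = (lift c (b₀ ≫ io) ≫ F).left cp := by
    intro c b hc
    let σc : Bo ⟶ C ⊗ Bo := lift (toUnit Bo ≫ c) (𝟙 Bo)
    have hσc : ∀ b : 𝟙_ _ ⟶ B0o, σc.left ((b ≫ jo).left cp) = (lift c (b ≫ jo)).left cp := fun b => by
      have e : (b ≫ jo) ≫ σc = lift c (b ≫ jo) := by
        simp only [σc]
        rw [comp_lift, Category.comp_id, ← Category.assoc, toUnit_unique ((b ≫ jo) ≫ toUnit Bo) (𝟙 _), Category.id_comp]
      rw [← e]; rfl
    haveI : IsIso (g ∣_ U) := ModifLib.isIso_restrict_of_le g (U := U') hUU'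
    obtain ⟨s, hs⟩ := exists_lift_curve g sb hBb σc.left U ⟨(b ≫ jo).left cp, Eq.subst (motive := fun x => x ∈ U) (hσc b).symm (hmemU c b)⟩
    have hfc : ∀ β, fP (σc.left β) = c.left cp := fun β => by
      have h1 := congrArg CommaMorphism.left (lift_fst (toUnit Bo ≫ c) (𝟙 Bo))
      refine (congr($(h1).base β)).trans ?_
      exact congrArg c.left (Subsingleton.elim (α := PrimeSpectrum k) _ _)
    have hsW : ∀ β, (s ≫ h) β ∈ W := fun β => by
      by_contra hW'
      exact hc ⟨g (s β), ⟨s β, hW', rfl⟩, (congrArg fP (congr($(hs).base β))).trans (hfc β)⟩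
    let u := WeilExtLib.resTo W (s ≫ h) hsW
    have hu : ∀ b : 𝟙_ _ ⟶ B0o, W.ι (u ((b ≫ jo).left cp)) = (lift c (b ≫ io) ≫ F).left cp := fun b => by
      rw [← Scheme.Hom.comp_apply, WeilExtLib.resTo_ι]
      refine hval c b _ ?_
      exact (congr($(hs).base _)).trans (hσc b)
    rw [← hu b, ← hu b₀]
    exact congrArg W.ι (apply_eq_of_affine sb u (b₀ ≫ jo).left (b ≫ jo).left (Over.w (b₀ ≫ jo)))
  refine ⟨Gm, ?_⟩
  haveI : IsIntegral (C ⊗ B).left := AlbLib.isIntegral_tensor C B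
  haveI : LocallyOfFiniteType (C ⊗ B).hom := inferInstanceAs (LocallyOfFiniteType (pullback.fst C.hom B.hom ≫ C.hom))
  haveI : LocallyOfFiniteType (F.left ≫ X.hom) := by rw [Over.w F]; infer_instance
  let S : (C ⊗ B).left.Opens := (fst C B).left ⁻¹ᵁ N ⊓ (snd C B).left ⁻¹ᵁ O
  have hSne : (S : Set (C ⊗ B).left).Nonempty := by
    refine ⟨(lift c₀ (b₀ ≫ io)).left cp, ?_, ?_⟩
    · show (lift c₀ (b₀ ≫ io) ≫ fst C B).left cp ∈ N
      rw [lift_fst]; exact hc₀N
    · show (lift c₀ (b₀ ≫ io) ≫ snd C B).left cp ∈ O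
      rw [lift_snd]; exact (b₀.left cp).2
  refine Over.OverMorphism.ext (ext_of_apply_eq X.hom (S : Set (C ⊗ B).left) S.2.isLocallyClosed
    (S.2.dense hSne) (fun x hx hxc => ?_) ((Over.w F).trans (Over.w (fst C B ≫ Gm)).symm))
  obtain ⟨hxN, hxO⟩ := hx
  let w := AlbLib.ratPt (C ⊗ B) x hxc
  have hwx : w.left cp = x := AlbLib.ratPt_apply (C ⊗ B) x hxc cp
  have hbm : ∀ t, (w ≫ snd C B).left t ∈ O := fun t => by
      rw [show t = cp from Subsingleton.elim (α := PrimeSpectrum k) _ _]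
      show (snd C B).left (w.left cp) ∈ O
      rw [hwx]; exact hxO
  let b' : 𝟙_ _ ⟶ B0o := Over.homMk (WeilExtLib.resTo O (w ≫ snd C B).left hbm) (by
      show WeilExtLib.resTo O _ _ ≫ O.ι ≫ B.hom = _
      rw [WeilExtLib.resTo_ι_assoc]
      exact Over.w (w ≫ snd C B))
  have hb' : b' ≫ io = w ≫ snd C B := Over.OverMorphism.ext (WeilExtLib.resTo_ι O _ hbm)
  have key := hpt (w ≫ fst C B) b' (by
    show (fst C B).left (w.left cp) ∈ N
    rw [hwx]; exact hxN)
  rw [hb', show lift (w ≫ fst C B) (w ≫ snd C B) = w from by rw [← comp_lift, lift_fst_snd, Category.comp_id]] at key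
  have e : lift (w ≫ fst C B) (b₀ ≫ io) ≫ F = (w ≫ fst C B) ≫ Gm := by
    simp only [Gm]
    rw [← Category.assoc, comp_lift, Category.comp_id, ← Category.assoc (w ≫ fst C B) (toUnit C),
      toUnit_unique ((w ≫ fst C B) ≫ toUnit C) (𝟙 _), Category.id_comp]
  rw [e] at key
  rw [← hwx]
  exact key

end RatCurvExt
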