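import Groth.Agent.RatCurvExtLib.Chart
import Groth.Agent.AlbLib.AlgClosed
import Groth.Agent.GenULocLib.Generic

/-!
# Families of curves: moving fibres and lifts of curves along dominant maps
-/

set_option autoImplicit false
set_option linter.style.haveILetI false
set_option backward.isDefEq.respectTransparency false
set_option backward.isDefEq.respectTransparency.types false
set_option maxHeartbeats 1000000

universe u

open CategoryTheory CategoryTheory.Limits AlgebraicGeometry TopologicalSpace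

noncomputable section

namespace RatCurvExt

/-- A point of the image has a finite field-valued point over it. -/
theorem exists_finite_point {W X : Scheme.{u}} (e : W ⟶ X) [LocallyOfFiniteType e] (w : X)
    (hw : w ∈ Set.range e) :
    ∃ (L : Type u) (_ : Field L) (ι : X.residueField w ⟶ CommRingCat.of L) (φ : Spec (CommRingCat.of L) ⟶ W),
      ι.hom.Finite ∧ φ ≫ e = Spec.map ι ≫ X.fromSpecResidueField w := by
  obtain ⟨v, hv⟩ := hw
  haveI : LocallyOfFiniteType (e.fiberToSpecResidueField w) :=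
    inferInstanceAs (LocallyOfFiniteType (pullback.snd _ _))
  haveI : Nonempty (e.fiber w) := ⟨(e.fiberHomeo w).symm ⟨v, hv⟩⟩
  haveI : JacobsonSpace (e.fiber w) := LocallyOfFiniteType.jacobsonSpace (e.fiberToSpecResidueField w)
  obtain ⟨z, -, hz⟩ := nonempty_inter_closedPoints (X := e.fiber w) Set.univ_nonempty isOpen_univ.isLocallyClosed
  haveI : IsClosedImmersion ((e.fiber w).fromSpecResidueField z) := isClosed_singleton_iff_isClosedImmersion.1 hz
  let m : Spec ((e.fiber w).residueField z) ⟶ Spec (X.residueField w) :=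
    (e.fiber w).fromSpecResidueField z ≫ e.fiberToSpecResidueField w
  let ι : X.residueField w ⟶ (e.fiber w).residueField z := Spec.preimage m
  have hι : ι.hom.Finite := by
    have h2 : LocallyOfFiniteType (Spec.map ι) := by
      rw [Spec.map_preimage]; exact inferInstanceAs (LocallyOfFiniteType (_ ≫ _))
    have h3 := (HasRingHomProperty.Spec_iff (P := @LocallyOfFiniteType)).1 h2
    algebraize [ι.hom]
    exact finite_of_finite_type_of_isJacobsonRing _ _
  exact ⟨(e.fiber w).residueField z, inferInstance, ι, (e.fiber w).fromSpecResidueField z ≫ e.fiberι w, hι, by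
    rw [Category.assoc, Scheme.Hom.fiber_fac, Spec.map_preimage, ← Category.assoc]⟩

variable {k : Type u} [Field k] [IsAlgClosed k]

/-- Through a closed point passes a smooth curve whose general point lifts along a given morphism with big image. -/
theorem exists_curve_over {W X : Scheme.{u}} [IsIntegral X] (p : X ⟶ Spec (CommRingCat.of k)) [LocallyOfFiniteType p]
    [IsSeparated p] (e : W ⟶ X) [LocallyOfFiniteType e]
    (y : X) (hy : IsClosed ({y} : Set X)) (O : X.Opens) (hO : (O : Set X).Nonempty) (hyO : y ∉ O)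
    (hOe : (O : Set X) ⊆ Set.range e) :
    ∃ (Q : Scheme.{u}) (_ : IsIntegral Q) (a : Q ⟶ X) (q : Q) (Q₀ : Q.Opens) (b : Q₀.toScheme ⟶ W),
      Smooth (a ≫ p) ∧ QuasiCompact (a ≫ p) ∧ IsSeparated (a ≫ p) ∧
      topologicalKrullDim Q ≤ 1 ∧ IsClosed ({q} : Set Q) ∧ a q = y ∧ genericPoint Q ∈ Q₀ ∧ b ≫ e = Q₀.ι ≫ a := by
  obtain ⟨w, hw, hwy, hdim⟩ := AVAmpleLib.exists_curve_not_mem p y hy O.2.isClosed_compl hyO fun h => by
    obtain ⟨z, hz⟩ := hO
    exact (h.ge (Set.mem_univ z)) hz
  have hwO : w ∈ O := not_not.1 hw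
  have himm : ∀ v : X, w ⤳ v → v ⤳ y → v = w ∨ v = y := fun v hwv hvy => by
    by_contra h
    push Not at h
    let cl : ↥(closure ({w} : Set X)) → IrreducibleCloseds ↥(closure ({w} : Set X)) :=
      fun z => ⟨closure {z}, isIrreducible_singleton.closure, isClosed_closure⟩
    have hlt : ∀ {a b : ↥(closure ({w} : Set X))}, a.1 ⤳ b.1 → a ≠ b → cl b < cl a := fun {a b} hab hne => by
      have hab' : a ⤳ b := (subtype_specializes_iff a b).2 hab
      exact lt_of_le_not_ge (fun c hc => closure_minimal (Set.singleton_subset_iff.2 hab'.mem_closure) isClosed_closure hc)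
        (fun hle => hne (hab'.antisymm (specializes_iff_mem_closure.2 (hle (subset_closure rfl)))).eq)
    let A : ↥(closure ({w} : Set X)) := ⟨w, subset_closure rfl⟩
    let B : ↥(closure ({w} : Set X)) := ⟨v, hwv.mem_closure⟩
    let C : ↥(closure ({w} : Set X)) := ⟨y, hwy.mem_closure⟩
    have h1 : cl B < cl A := hlt hwv fun e => h.1 (congrArg Subtype.val e).symm
    have h2 : cl C < cl B := hlt hvy fun e => h.2 (congrArg Subtype.val e)
    let l : LTSeries (IrreducibleCloseds ↥(closure ({w} : Set X))) :=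
      ((RelSeries.singleton _ (cl C)).snoc (cl B) h2).snoc (cl A) (by simpa using h1)
    have h3 : (2 : WithBot ℕ∞) ≤ topologicalKrullDim ↥(closure ({w} : Set X)) :=
      le_trans (by simp [l]) (Order.LTSeries.length_le_krullDim l)
    rw [hdim] at h3
    exact absurd h3 (by norm_num)
  have hne : w ≠ y := fun h => hyO (h ▸ hwO)
  have hk : ∀ W : (Spec (CommRingCat.of k)).affineOpens, CAlg.IsNagata Γ(Spec (CommRingCat.of k), W) :=
    fun W => Groth.Agent.S9833.result (Spec (CommRingCat.of k)) (fun _ : PUnit.{u+1} => ⊤) iSup_const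
      (fun _ => isAffineOpen_top _) (fun _ => by
        letI := ((Scheme.ΓSpecIso (CommRingCat.of k)).inv.hom).toAlgebra
        haveI : Algebra.FiniteType k Γ(Spec (CommRingCat.of k), ⊤) :=
          RingHom.FiniteType.of_surjective _ (ConcreteCategory.bijective_of_isIso (Scheme.ΓSpecIso (CommRingCat.of k)).inv).2
        exact Groth.Agent.S0566.result k (DeltaBaseLib.isNagata_of_field k) Γ(Spec (CommRingCat.of k), ⊤)) W.1 W.2
  obtain ⟨L, hL, ι, φ, hι, hφ⟩ := exists_finite_point e w (hOe hwO)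
  obtain ⟨Q, a, hQ, hQa, q, θ, hlft, hqc, hn, hq, hdq, haq, hgen⟩ := NormFinLib.exists_curve hk p hwy hne himm
    ⊤ trivial (fun v _ hv => (hv.mem_closed hy rfl)) L ι hι
  haveI := hQ; haveI := hlft; haveI := hQa
  haveI : IsLocallyNoetherian Q := LocallyOfFiniteType.isLocallyNoetherian (a ≫ p)
  have hd : topologicalKrullDim Q ≤ 1 := by
    letI : Q.Over (Spec (CommRingCat.of k)) := ⟨a ≫ p⟩
    haveI : LocallyOfFiniteType (Q ↘ Spec (CommRingCat.of k)) := hlft
    rw [← hdq, ← Groth.Agent.S1617.result k Q q hq, FibDimLib.localDim_of_irreducible (a ≫ p) q]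
  obtain ⟨Q₀, hξ, b, -, hb⟩ := spread_out_of_isGermInjective' (x := genericPoint Q) a e
    (show Spec (Q.presheaf.stalk (genericPoint Q)) ⟶ W from θ ≫ φ) (by
      rw [hgen, Category.assoc, hφ])
  refine ⟨Q, hQ, a, q, Q₀, b, CurveH0Lib.smooth_of_regular k (a ≫ p) (fun x => ?_), hqc, inferInstance, hd, hq, haq, hξ, hb⟩
  have hx1 : ringKrullDim (Q.presheaf.stalk x) ≤ 1 := (DimIneqLib.stalk_dim_le_dim x).trans hd
  haveI := hn x
  exact MiscFlat6.isRegularLocalRing_of_normal_dim_le_one _ hx1

/-- The closed fibres over an open set of the base contain two points with different images. -/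
theorem exists_moving {M D X : Scheme.{u}} (m : M ⟶ Spec (CommRingCat.of k)) [IsSeparated m] [LocallyOfFiniteType m]
    (pX : X ⟶ Spec (CommRingCat.of k)) [IsSeparated pX] [LocallyOfFiniteType pX]
    (toM : D ⟶ M) [Flat toM] [LocallyOfFiniteType toM] (ev : D ⟶ X) (hev : toM ≫ m = ev ≫ pX)
    (t t' : D) (htt : toM t = toM t') (hne : ev t ≠ ev t') :
    ∃ M₁ : M.Opens, (M₁ : Set M).Nonempty ∧ ∀ μ ∈ M₁, IsClosed ({μ} : Set M) →
      ∃ t₁ t₂ : D, IsClosed ({t₁} : Set D) ∧ IsClosed ({t₂} : Set D) ∧ toM t₁ = μ ∧ toM t₂ = μ ∧ ev t₁ ≠ ev t₂ := by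
  haveI : IsLocallyNoetherian M := LocallyOfFiniteType.isLocallyNoetherian m
  haveI : LocallyOfFinitePresentation toM := LocallyOfFinitePresentation.iff_locallyOfFiniteType.2 inferInstance
  let ev₂ : pullback toM toM ⟶ pullback pX pX := pullback.map toM toM pX pX ev ev m hev hev
  let N : (pullback toM toM).Opens := ⟨(ev₂ ⁻¹' Set.range (pullback.diagonal pX))ᶜ,
    ((pullback.diagonal pX).isClosedEmbedding.isClosed_range.preimage ev₂.continuous).isOpen_compl⟩
  let π : pullback toM toM ⟶ M := pullback.fst toM toM ≫ toM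
  haveI : Flat π := inferInstanceAs (Flat (pullback.fst toM toM ≫ toM))
  haveI : LocallyOfFinitePresentation π :=
    inferInstanceAs (LocallyOfFinitePresentation (pullback.fst toM toM ≫ toM))
  obtain ⟨z₀, hz₁, hz₂⟩ := Scheme.Pullback.exists_preimage_pullback t t' htt
  have hz₀ : z₀ ∈ N := by
    rintro ⟨ξ, hξ⟩
    refine hne ?_
    calc ev t = ev (pullback.fst toM toM z₀) := by rw [hz₁]
      _ = pullback.fst pX pX (ev₂ z₀) := by
        rw [← Scheme.Hom.comp_apply, ← Scheme.Hom.comp_apply]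
        exact congr($((pullback.lift_fst _ _ _ : ev₂ ≫ pullback.fst pX pX = _).symm).base z₀)
      _ = ξ := by rw [← hξ, ← Scheme.Hom.comp_apply, pullback.diagonal_fst]; rfl
      _ = pullback.snd pX pX (ev₂ z₀) := by rw [← hξ, ← Scheme.Hom.comp_apply, pullback.diagonal_snd]; rfl
      _ = ev (pullback.snd toM toM z₀) := by
        rw [← Scheme.Hom.comp_apply, ← Scheme.Hom.comp_apply]
        exact congr($((pullback.lift_snd _ _ _ : ev₂ ≫ pullback.snd pX pX = _)).base z₀)
      _ = ev t' := by rw [hz₂]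
  refine ⟨⟨π '' (N : Set ↥(pullback toM toM)), π.isOpenMap _ N.2⟩, ⟨_, z₀, hz₀, rfl⟩, fun μ hμ hμc => ?_⟩
  obtain ⟨z, hzN, hzμ⟩ := hμ
  let σ : pullback toM toM ⟶ Spec (CommRingCat.of k) := π ≫ m
  haveI : LocallyOfFiniteType σ := inferInstanceAs (LocallyOfFiniteType (π ≫ m))
  haveI : JacobsonSpace ↥(pullback toM toM) := LocallyOfFiniteType.jacobsonSpace σ
  obtain ⟨w, ⟨hwN, hwμ⟩, hwc⟩ := nonempty_inter_closedPoints
    (Z := (N : Set ↥(pullback toM toM)) ∩ π ⁻¹' {μ}) ⟨z, hzN, hzμ⟩
    (N.2.isLocallyClosed.inter (hμc.preimage π.continuous).isLocallyClosed)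
  let P := pointOfClosedPoint σ w hwc
  have hP : P ≫ σ = 𝟙 _ := pointOfClosedPoint_comp σ w hwc
  have hPw : P (IsLocalRing.closedPoint k) = w := pointOfClosedPoint_apply σ w hwc _
  haveI : LocallyOfFiniteType (toM ≫ m) := inferInstance
  have hD₁ : (P ≫ pullback.fst toM toM) ≫ toM ≫ m = 𝟙 _ := by
    simpa [σ, π] using hP
  have hD₂ : (P ≫ pullback.snd toM toM) ≫ toM ≫ m = 𝟙 _ := by
    simpa [σ, π, ← pullback.condition_assoc] using hP
  refine ⟨pullback.fst toM toM w, pullback.snd toM toM w, ?_, ?_, hwμ, ?_, ?_⟩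
  · rw [← hPw, ← Scheme.Hom.comp_apply]
    exact (pointEquivClosedPoint (toM ≫ m) ⟨_, hD₁⟩).2
  · rw [← hPw, ← Scheme.Hom.comp_apply]
    exact (pointEquivClosedPoint (toM ≫ m) ⟨_, hD₂⟩).2
  · rw [← hwμ]
    exact congr($((pullback.condition : pullback.fst toM toM ≫ toM = _).symm).base w)
  · intro h
    apply hwN
    have e : P ≫ pullback.fst toM toM ≫ ev = P ≫ pullback.snd toM toM ≫ ev := by
      refine ext_of_apply_closedPoint_eq pX ?_ ?_ ?_
      · simpa [← hev] using hD₁
      · simpa [← hev] using hD₂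
      · simp only [Scheme.Hom.comp_apply]; rw [hPw]; exact h
    refine ⟨(P ≫ pullback.fst toM toM ≫ ev) (IsLocalRing.closedPoint k), ?_⟩
    rw [← hPw, ← Scheme.Hom.comp_apply, ← Scheme.Hom.comp_apply]
    have e' : (P ≫ pullback.fst toM toM ≫ ev) ≫ pullback.diagonal pX = P ≫ ev₂ := by
      apply pullback.hom_ext
      · simp [ev₂]
      · simpa [ev₂] using e
    rw [e']

end RatCurvExt
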