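import Groth.Agent.RatCurvExtLib.Main
import Groth.Agent.RatCurvExtLib.Moves
import Groth.Agent.ProjDegLib.Criterion

/-!
# Degenerations of a family of rational curves
-/

set_option autoImplicit false
set_option linter.style.haveILetI false
set_option backward.isDefEq.respectTransparency false
set_option backward.isDefEq.respectTransparency.types false
set_option maxHeartbeats 1000000

universe u

open CategoryTheory CategoryTheory.Limits AlgebraicGeometry TopologicalSpace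

noncomputable section

namespace RatCurvExt

variable {k : Type u} [Field k] [IsAlgClosed k]

local notation "cp" => IsLocalRing.closedPoint k
local notation "tp" => CohB1.ProjSpace.toSpec 1 k

/-- The limit of a sweeping family of nonconstant rational curves through a given point contains a rational curve. -/
theorem exists_ratCurve_of_family {X M : Scheme.{u}} (pX : X ⟶ Spec (CommRingCat.of k)) [IsProper pX]
    (m : M ⟶ Spec (CommRingCat.of k))
    (D : (pullback tp m).Opens) (ev : D.toScheme ⟶ X)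
    (hev : ev ≫ pX = D.ι ≫ pullback.fst tp m ≫ tp)
    (M₁ : M.Opens)
    (hM₁ : ∀ μ ∈ M₁, IsClosed ({μ} : Set M) → ∃ t₁ t₂ : D.toScheme, IsClosed ({t₁} : Set D.toScheme) ∧
      IsClosed ({t₂} : Set D.toScheme) ∧ (D.ι ≫ pullback.snd tp m) t₁ = μ ∧ (D.ι ≫ pullback.snd tp m) t₂ = μ ∧ ev t₁ ≠ ev t₂)
    [IsSeparated m] [LocallyOfFiniteType m]
    {Q : Scheme.{u}} [IsIntegral Q] (a : Q ⟶ X) [Smooth (a ≫ pX)] [QuasiCompact (a ≫ pX)] [IsSeparated (a ≫ pX)]
    (hQ : topologicalKrullDim Q ≤ 1) (q : Q) (hq₀ : IsClosed ({q} : Set Q)) (hq : IsClosed ({a q} : Set X))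
    (Q₀ : Q.Opens) (hξ : genericPoint Q ∈ Q₀) (b : Q₀.toScheme ⟶ D.toScheme)
    (hbM : ∀ v, (D.ι ≫ pullback.snd tp m) (b v) ∈ M₁) (hb : b ≫ ev = Q₀.ι ≫ a) :
    ∃ g : CohB1.ProjSpace 1 k ⟶ X, g ≫ pX = tp ∧ (¬ ∃ y : X, Set.range g.base ⊆ {y}) ∧ a q ∈ Set.range g.base := by
  by_contra hno
  push Not at hno
  haveI : IsProper tp := ProjDegLib.toSpec_isProper k 1
  haveI : Smooth tp := GenusZeroLib.smooth_toSpec 1 k
  haveI : IsIntegral (CohB1.ProjSpace 1 k) := GenusZeroLib.isIntegral_projSpace k 1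
  have hP1 : topologicalKrullDim ↥(CohB1.ProjSpace 1 k) ≤ 1 :=
    le_of_eq ((GenusZeroLib.dim_projSpace k 1).trans (by norm_num))
  haveI : JacobsonSpace ↥(CohB1.ProjSpace 1 k) := LocallyOfFiniteType.jacobsonSpace tp
  obtain ⟨Qb, sb, j, hj, hjs, hsbp, hsbs, hsbi⟩ := SquareLib.exists_completion (a ≫ pX) hQ
  haveI := hj; haveI := hsbp; haveI := hsbs; haveI := hsbi
  haveI : IsIntegral Qb := GeometricallyIntegral.isIntegral_of_subsingleton sb
  haveI : IsLocallyNoetherian Qb := LocallyOfFiniteType.isLocallyNoetherian sb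
  haveI : JacobsonSpace Qb := LocallyOfFiniteType.jacobsonSpace sb
  have hQb : topologicalKrullDim Qb ≤ 1 := by
    rw [← VarDimLib.dim_open_eq sb j.opensRange ⟨j (genericPoint Q), ⟨_, rfl⟩⟩]
    calc topologicalKrullDim ↥(j.opensRange : Set Qb) = topologicalKrullDim Q :=
          (IsHomeomorph.topologicalKrullDim_eq _ j.isOpenEmbedding.isEmbedding.toHomeomorph.isHomeomorph).symm
      _ ≤ 1 := hQ
  -- the rational map on the surface
  let j₀ : Q₀.toScheme ⟶ Qb := Q₀.ι ≫ j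
  let bP : Q₀.toScheme ⟶ pullback tp m := b ≫ D.ι
  let z₀ : Q₀.toScheme ⟶ CohB1.ProjSpace 1 k := bP ≫ pullback.fst tp m
  let μ : Q₀.toScheme ⟶ M := bP ≫ pullback.snd tp m
  have hj₀ : j₀ ≫ sb = Q₀.ι ≫ a ≫ pX := by simp only [j₀, Category.assoc, hjs]
  have hz₀ : z₀ ≫ tp = j₀ ≫ sb := by
    simp only [z₀, bP, Category.assoc]
    rw [hj₀, ← hev, ← Category.assoc, hb, Category.assoc]
  have hμ : μ ≫ m = j₀ ≫ sb := by
    rw [← hz₀]; simp only [μ, z₀, Category.assoc, pullback.condition]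
  let P := pullback tp sb
  let fP : P ⟶ CohB1.ProjSpace 1 k := pullback.fst tp sb
  let sP : P ⟶ Qb := pullback.snd tp sb
  let σ : P ⟶ Spec (CommRingCat.of k) := fP ≫ tp
  haveI : IsProper sP := inferInstanceAs (IsProper (pullback.snd tp sb))
  haveI : Smooth σ := inferInstanceAs (Smooth (pullback.fst tp sb ≫ tp))
  haveI : IsProper σ := inferInstanceAs (IsProper (pullback.fst tp sb ≫ tp))
  haveI : LocallyOfFiniteType (Over.mk tp).hom := inferInstanceAs (LocallyOfFiniteType tp)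
  haveI : LocallyOfFiniteType (Over.mk sb).hom := inferInstanceAs (LocallyOfFiniteType sb)
  haveI : IsIntegral (Over.mk tp).left := inferInstanceAs (IsIntegral (CohB1.ProjSpace 1 k))
  haveI : IsIntegral (Over.mk sb).left := inferInstanceAs (IsIntegral Qb)
  haveI : IsIntegral P := AlbLib.isIntegral_tensor (Over.mk tp) (Over.mk sb)
  haveI : JacobsonSpace P := LocallyOfFiniteType.jacobsonSpace σ
  have hd : topologicalKrullDim P ≤ 2 := by
    show topologicalKrullDim ↥(pullback tp sb) ≤ 2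
    rw [Groth.Agent.DimFieldBCLib.dim_prod tp sb]
    exact (add_le_add hP1 hQb).trans_eq one_add_one_eq_two
  let U₁ : P.Opens := sP ⁻¹ᵁ j₀.opensRange
  let u0 : U₁.toScheme ⟶ Q₀.toScheme := (sP ∣_ j₀.opensRange) ≫ j₀.isoOpensRange.inv
  have hu0 : u0 ≫ j₀ = U₁.ι ≫ sP := by
    simp only [u0, Category.assoc, Scheme.Hom.isoOpensRange_inv_comp]
    exact morphismRestrict_ι sP j₀.opensRange
  let κ : U₁.toScheme ⟶ pullback tp m := pullback.lift (U₁.ι ≫ fP) (u0 ≫ μ) (by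
    rw [Category.assoc, Category.assoc, hμ, ← Category.assoc u0, hu0, Category.assoc, pullback.condition])
  let U : P.Opens := U₁.ι ''ᵁ (κ ⁻¹ᵁ D)
  let φ : U.toScheme ⟶ X := (U₁.ι.isoImage (κ ⁻¹ᵁ D)).inv ≫ (κ ∣_ D) ≫ ev
  have hφ : φ ≫ pX = U.ι ≫ σ := by
    simp only [φ, Category.assoc, hev]
    rw [morphismRestrict_ι_assoc, ← Category.assoc κ, pullback.lift_fst, Category.assoc,
      Scheme.Hom.isoImage_inv_ι_assoc]
  -- points of the surface
  have key : ∀ (T : Scheme.{u}) (c : T ⟶ CohB1.ProjSpace 1 k) (d : T ⟶ Q₀.toScheme)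
      (hcd : c ≫ tp = (d ≫ μ) ≫ m) (w : T ⟶ P) (hw₁ : w ≫ fP = c) (hw₂ : w ≫ sP = d ≫ j₀)
      (δ : T ⟶ D.toScheme) (hδ : δ ≫ D.ι = pullback.lift c (d ≫ μ) hcd),
      ∀ t, ∃ hU : w t ∈ U, φ ⟨w t, hU⟩ = ev (δ t) := by
    intro T c d hcd w hw₁ hw₂ δ hδ
    have h1 : ∀ t, w t ∈ U₁ := fun t => ⟨d t, (congr($(hw₂).base t)).symm⟩
    let w1 := WeilExtLib.resTo U₁ w h1
    have hw1 : w1 ≫ U₁.ι = w := WeilExtLib.resTo_ι _ _ _
    have hwu : w1 ≫ u0 = d := by
      rw [← cancel_mono j₀, Category.assoc, hu0, ← Category.assoc, hw1, hw₂]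
    have hwκ : w1 ≫ κ = δ ≫ D.ι := by
      rw [hδ]
      apply pullback.hom_ext
      · rw [Category.assoc, pullback.lift_fst, pullback.lift_fst, ← Category.assoc, hw1, hw₁]
      · rw [Category.assoc, pullback.lift_snd, pullback.lift_snd, ← Category.assoc, hwu]
    have h2 : ∀ t, w1 t ∈ κ ⁻¹ᵁ D := fun t => by
      show κ (w1 t) ∈ D
      rw [← Scheme.Hom.comp_apply, hwκ]
      exact (δ t).2
    have hU : ∀ t, w t ∈ U := fun t => ⟨w1 t, h2 t, congr($(hw1).base t)⟩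
    let w2 := WeilExtLib.resTo (κ ⁻¹ᵁ D) w1 h2
    let wU := WeilExtLib.resTo U w hU
    have hw2 : w2 ≫ (U₁.ι.isoImage (κ ⁻¹ᵁ D)).hom = wU := by
      rw [← cancel_mono U.ι, Category.assoc, Scheme.Hom.isoImage_hom_ι, WeilExtLib.resTo_ι, WeilExtLib.resTo_ι_assoc, hw1]
    have hw3 : w2 ≫ (κ ∣_ D) = δ := by
      rw [← cancel_mono D.ι, Category.assoc, morphismRestrict_ι, WeilExtLib.resTo_ι_assoc, hwκ]
    have hval : wU ≫ φ = δ ≫ ev := by
      rw [← hw2]
      simp only [φ, Category.assoc, Iso.hom_inv_id_assoc]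
      rw [← Category.assoc, hw3]
    intro t
    refine ⟨hU t, ?_⟩
    have e : wU t = ⟨w t, hU t⟩ := Subtype.ext (congr($(WeilExtLib.resTo_ι U w hU).base t))
    rw [← e, ← Scheme.Hom.comp_apply, hval]; rfl
  -- the section over the curve
  haveI : Nonempty Q₀ := ⟨⟨_, hξ⟩⟩
  haveI : IsIntegral Q₀.toScheme := isIntegral_of_isOpenImmersion Q₀.ι
  obtain ⟨zb, hzb, hzb₀⟩ : ∃ zb : Qb ⟶ CohB1.ProjSpace 1 k, zb ≫ tp = sb ∧ j₀ ≫ zb = z₀ := by
    have hreg : ∀ x : Qb, IsRegularLocalRing (Qb.presheaf.stalk x) := fun x => by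
      haveI := WeilExtLib.isRegular_stalk_dedekind (R := k) (sb x)
      exact BlowUpLib.isRegularLocalRing_stalk_of_smooth sb x
    obtain ⟨V, hV, g', hg', hres, hcod⟩ := WeilExtLib.exists_extend_proper tp sb (fun y _ => hreg y) j₀.opensRange
      (j₀.opensRange.2.dense ⟨j₀ (genericPoint Q₀.toScheme), _, rfl⟩) (j₀.isoOpensRange.inv ≫ z₀) (by
        rw [Category.assoc, hz₀, Scheme.Hom.isoOpensRange_inv_comp_assoc])
    have hV' : (⊤ : Qb.Opens) ≤ V := fun x _ => hcod x ((DimIneqLib.stalk_dim_le_dim x).trans hQb)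
    refine ⟨Qb.topIso.inv ≫ Qb.homOfLE hV' ≫ g', ?_, ?_⟩
    · simp only [Category.assoc, hg']
      rw [Scheme.homOfLE_ι_assoc]
      exact Qb.topIso.inv_hom_id_assoc sb
    · rw [← cancel_epi j₀.isoOpensRange.inv, ← hres]
      simp only [← Category.assoc]
      congr 1
      rw [← cancel_mono V.ι]
      simp [Scheme.Hom.isoOpensRange_inv_comp]
  let σc : Qb ⟶ P := pullback.lift zb (𝟙 Qb) (by rw [hzb, Category.id_comp])
  let wc : Q₀.toScheme ⟶ P := j₀ ≫ σc
  have hwc := key Q₀.toScheme z₀ (𝟙 _) (by rw [Category.id_comp, hμ, hz₀]) wc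
    (by simp only [wc, σc, fP, Category.assoc, pullback.lift_fst, hzb₀])
    (by simp only [wc, σc, sP, Category.assoc, pullback.lift_snd, Category.comp_id, Category.id_comp])
    b (by apply pullback.hom_ext <;> simp [z₀, μ, bP])
  let ξ₀ : Q₀.toScheme := ⟨_, hξ⟩
  obtain ⟨hξU, -⟩ := hwc ξ₀
  obtain ⟨U', hUU', P', g, h, hg, hh, hgi, hfin, hag⟩ := exists_resolution pX σ hd U ⟨_, hξU⟩ φ hφ
  haveI := hgi
  haveI := ModifLib.isProper_of_contractionSeq g hg
  have hval : ∀ (w : P') (hw : g w ∈ U), h w = φ ⟨g w, hw⟩ := fun w hw => by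
    refine (congr($(hag).base ⟨w, hw⟩)).trans ?_
    show φ ((g ∣_ U) ⟨w, hw⟩) = φ ⟨g w, hw⟩
    exact congrArg φ (Subtype.ext (morphismRestrict_base_coe g U ⟨w, hw⟩))
  obtain ⟨s, hs⟩ := exists_lift_curve g sb hQb σc U' ⟨j₀ ξ₀, hUU' hξU⟩
  have hjsh : j ≫ s ≫ h = a := by
    have e : (j ≫ s ≫ h) ≫ pX = a ≫ pX := by
      simp only [Category.assoc, hh]
      rw [← Category.assoc s, hs]
      simp only [σ, fP, σc, pullback.lift_fst_assoc, hzb, hjs]
    haveI : LocallyOfFiniteType ((j ≫ s ≫ h) ≫ pX) := by rw [e]; infer_instance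
    refine ext_of_apply_eq pX (Q₀ : Set Q) Q₀.2.isLocallyClosed (Q₀.2.dense ⟨_, hξ⟩) (fun v hv _ => ?_) e
    obtain ⟨hU, hφv⟩ := hwc ⟨v, hv⟩
    have hgs : g (s (j v)) = wc ⟨v, hv⟩ := congr($(hs).base (j v))
    show h (s (j v)) = a v
    rw [hval _ (hgs.symm ▸ hU)]
    refine (congrArg φ (Subtype.ext hgs)).trans (hφv.trans ?_)
    exact congr($(hb).base ⟨v, hv⟩)
  let x := a q
  let r := s (j q)
  have hr : h r = x := congr($(hjsh).base q)
  -- the fibre through the point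
  let G₀ : Set P' := h ⁻¹' {x}
  have hG₀ : IsClosed G₀ := hq.preimage h.continuous
  have hlines : ∀ ψ : CohB1.ProjSpace 1 k ⟶ P', ψ ≫ g ≫ σ = tp → ∀ z, ψ z ∈ G₀ → ∀ z', ψ z' ∈ G₀ := by
    intro ψ hψ z hz z'
    have h1 : (ψ ≫ h) ≫ pX = tp := by rw [Category.assoc, hh, hψ]
    by_contra hz'
    refine hno (ψ ≫ h) h1 (fun y hy => hz' ?_) ⟨z, hz⟩
    show h (ψ z') = x
    rw [← show h (ψ z) = x from hz]
    exact (hy ⟨z', rfl⟩ : (ψ ≫ h) z' = y).trans (hy ⟨z, rfl⟩ : (ψ ≫ h) z = y).symm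
  have hfibre : ∀ γ : Qb, IsClosed ({γ} : Set Qb) → ∃ σγ : CohB1.ProjSpace 1 k ⟶ P, σγ ≫ fP = 𝟙 _ ∧
      (∀ z, sP (σγ z) = γ) ∧ (∀ p, sP p = γ → ∃ z, σγ z = p) ∧ ∃ z, σγ z ∈ U' := by
    intro γ hγ
    let Pγ := pointOfClosedPoint sb γ hγ
    let σγ : CohB1.ProjSpace 1 k ⟶ P := pullback.lift (𝟙 _) (tp ≫ Pγ) (by
      rw [Category.id_comp, Category.assoc, pointOfClosedPoint_comp, Category.comp_id])
    have h1 : σγ ≫ fP = 𝟙 _ := pullback.lift_fst _ _ _
    have h2 : ∀ z, sP (σγ z) = γ := fun z => by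
      rw [← Scheme.Hom.comp_apply, show σγ ≫ sP = tp ≫ Pγ from pullback.lift_snd _ _ _, Scheme.Hom.comp_apply]
      exact pointOfClosedPoint_apply sb γ hγ _
    haveI : IsProper (σγ ≫ σ) := by
      simp only [σ, ← Category.assoc, h1, Category.id_comp]; infer_instance
    haveI : IsProper σγ := IsProper.of_comp σγ σ
    have h3 : ∀ p, sP p = γ → ∃ z, σγ z = p := by
      have hsub : sP ⁻¹' {γ} ∩ closedPoints P ⊆ Set.range σγ := by
        rintro p ⟨hp, hpc⟩
        let Pp := pointOfClosedPoint σ p hpc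
        have hPp : Pp cp = p := pointOfClosedPoint_apply σ p hpc _
        have e₂ : Pp ≫ sP = Pγ := by
          refine ext_of_apply_closedPoint_eq sb ?_ (pointOfClosedPoint_comp sb γ hγ) ?_
          · simp only [sP, Category.assoc, ← pullback.condition]
            exact pointOfClosedPoint_comp σ p hpc
          · rw [Scheme.Hom.comp_apply, hPp, pointOfClosedPoint_apply]; exact hp
        have e : (Pp ≫ fP) ≫ σγ = Pp := by
          apply pullback.hom_ext
          · simp only [σγ, fP, Category.assoc, pullback.lift_fst, Category.comp_id]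
          · simp only [σγ, Category.assoc, pullback.lift_snd]
            rw [show Pp ≫ fP ≫ tp ≫ Pγ = (Pp ≫ σ) ≫ Pγ by simp [σ], pointOfClosedPoint_comp, Category.id_comp]
            exact e₂.symm
        exact ⟨(Pp ≫ fP) cp, (congr($(e).base cp)).trans hPp⟩
      intro p hp
      have h4 := closure_minimal hsub σγ.isClosedMap.isClosed_range
      rw [JacobsonSpace.closure_inter_closedPoints_eq_closure (hγ.preimage sP.continuous).isLocallyClosed] at h4
      exact h4 (subset_closure hp)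
    refine ⟨σγ, h1, h2, h3, ?_⟩
    by_contra hne
    push Not at hne
    let η₁ := genericPoint (CohB1.ProjSpace 1 k)
    have hcl : IsClosed ({σγ η₁} : Set P) := by
      have hC : IsClosed (U' : Set P)ᶜ := U'.2.isClosed_compl
      have h5 : IsClosed ((U' : Set P)ᶜ ∩ closedPoints P) := by
        rw [← Set.biUnion_of_singleton ((U' : Set P)ᶜ ∩ closedPoints P)]
        exact (hfin.inter_of_left _).isClosed_biUnion fun p hp => hp.2
      have h6 := JacobsonSpace.closure_inter_closedPoints_eq_closure hC.isLocallyClosed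
      rw [h5.closure_eq, hC.closure_eq] at h6
      exact (h6.ge (hne η₁)).2
    have hall : ∀ z : CohB1.ProjSpace 1 k, z = fP (σγ η₁) := fun z => by
      have : σγ z = σγ η₁ := ((genericPoint_specializes z).map σγ.continuous).mem_closed hcl rfl
      rw [← this, ← Scheme.Hom.comp_apply, h1]; rfl
    haveI : Subsingleton ↥(CohB1.ProjSpace 1 k) := ⟨fun z z' => (hall z).trans (hall z').symm⟩
    haveI : Subsingleton (IrreducibleCloseds ↥(CohB1.ProjSpace 1 k)) := ⟨fun A B => IrreducibleCloseds.ext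
      ((Subsingleton.eq_univ_of_nonempty A.2.1).trans (Subsingleton.eq_univ_of_nonempty B.2.1).symm)⟩
    have h7 : topologicalKrullDim ↥(CohB1.ProjSpace 1 k) ≤ 0 := Order.krullDim_nonpos_of_subsingleton
    rw [GenusZeroLib.dim_projSpace k 1] at h7
    exact absurd h7 (by norm_num)
  have hjqc : IsClosed ({j q} : Set Qb) := by
    let Pq := pointOfClosedPoint (a ≫ pX) q hq₀
    have h1 := (pointEquivClosedPoint sb ⟨Pq ≫ j, by rw [Category.assoc, hjs, pointOfClosedPoint_comp]⟩).2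
    have h2 : (Pq ≫ j) cp = j q := by rw [Scheme.Hom.comp_apply, pointOfClosedPoint_apply]
    exact h2 ▸ h1
  obtain ⟨σq, hσq₁, hσq₂, hσq₃, hσq₄⟩ := hfibre (j q) hjqc
  haveI : IsProper (σq ≫ σ) := by
    simp only [σ, ← Category.assoc, hσq₁, Category.id_comp]; infer_instance
  obtain ⟨ψ₀, hψ₀⟩ := exists_lift_curve g tp hP1 σq U' hσq₄
  have hgr : sP (g r) = j q := by
    show sP (g (s (j q))) = j q
    rw [show g (s (j q)) = σc (j q) from congr($(hs).base (j q)), ← Scheme.Hom.comp_apply,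
      show σc ≫ sP = 𝟙 _ from pullback.lift_snd _ _ _]
    rfl
  obtain ⟨zr, hzr⟩ := hσq₃ _ hgr
  have hψ₀s : ψ₀ ≫ g ≫ σ = tp := by
    rw [← Category.assoc, hψ₀, show σq ≫ σ = (σq ≫ fP) ≫ tp from (Category.assoc _ _ _).symm, hσq₁, Category.id_comp]
  have hψ₀G : ∀ z, ψ₀ z ∈ G₀ := fun z =>
    hlines ψ₀ hψ₀s zr (fibre_subset g hg σ G₀ hG₀ hlines r (ψ₀ zr)
      ((hzr.symm).trans (congr($(hψ₀).base zr)).symm) hr) z
  have hover : ∀ w : P', sP (g w) = j q → h w = x := fun w hw => by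
    obtain ⟨z, hz⟩ := hσq₃ _ hw
    exact fibre_subset g hg σ G₀ hG₀ hlines (ψ₀ z) w ((congr($(hψ₀).base z)).trans hz) (hψ₀G z)
  -- nearby fibres
  obtain ⟨W, hW, hxW, -⟩ := exists_isAffineOpen_mem_and_subset (x := x) (U := ⊤) trivial
  haveI : IsAffine W.toScheme := hW
  let Bad : Set Qb := sP '' (g '' (h ⁻¹' (W : Set X)ᶜ))
  have hBad : IsClosed Bad := sP.isClosedMap _ (g.isClosedMap _ (W.2.isClosed_compl.preimage h.continuous))
  have hqB : j q ∉ Bad := by
    rintro ⟨p, ⟨w, hw, rfl⟩, hp⟩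
    exact hw (show h w ∈ W from (hover w hp).symm ▸ hxW)
  obtain ⟨γ, ⟨hγB, hγ⟩, hγc⟩ := nonempty_inter_closedPoints
    (nonempty_preirreducible_inter hBad.isOpen_compl j₀.opensRange.2 ⟨_, hqB⟩ ⟨j₀ ξ₀, ⟨_, rfl⟩⟩)
    ((hBad.isOpen_compl.inter j₀.opensRange.2).isLocallyClosed)
  obtain ⟨v, rfl⟩ := hγ
  have hvc : IsClosed ({v} : Set Q₀.toScheme) := by
    have := (show IsClosed ({j₀ v} : Set Qb) from hγc).preimage j₀.continuous
    rwa [← Set.image_singleton, Set.preimage_image_eq _ j₀.isOpenEmbedding.injective] at this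
  obtain ⟨σv, hσv₁, hσv₂, hσv₃, hσv₄⟩ := hfibre (j₀ v) hγc
  obtain ⟨ψ, hψ⟩ := exists_lift_curve g tp hP1 σv U' hσv₄
  have hψW : ∀ z, (ψ ≫ h) z ∈ W := fun z => by
    by_contra hzW
    exact hγB ⟨g (ψ z), ⟨ψ z, hzW, rfl⟩, (congrArg sP (congr($(hψ).base z))).trans (hσv₂ z)⟩
  let u := WeilExtLib.resTo W (ψ ≫ h) hψW
  have hu : ∀ z, IsClosed ({z} : Set ↥(CohB1.ProjSpace 1 k)) → ∀ z', IsClosed ({z'} : Set ↥(CohB1.ProjSpace 1 k)) →
      (ψ ≫ h) z = (ψ ≫ h) z' := fun z hz z' hz' => by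
    have e := apply_eq_of_affine tp u (pointOfClosedPoint tp z hz) (pointOfClosedPoint tp z' hz')
      (pointOfClosedPoint_comp tp z hz)
    rw [pointOfClosedPoint_apply, pointOfClosedPoint_apply] at e
    have e' := congrArg W.ι e
    rw [← Scheme.Hom.comp_apply, ← Scheme.Hom.comp_apply, WeilExtLib.resTo_ι] at e'
    exact e'.symm
  -- the moving points
  have hμc : IsClosed ({μ v} : Set M) := by
    let Pv := pointOfClosedPoint (Q₀.ι ≫ a ≫ pX) v hvc
    have h1 := (pointEquivClosedPoint m ⟨Pv ≫ μ, by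
      rw [Category.assoc, hμ, hj₀, pointOfClosedPoint_comp]⟩).2
    have h2 : (Pv ≫ μ) cp = μ v := by rw [Scheme.Hom.comp_apply, pointOfClosedPoint_apply]
    exact h2 ▸ h1
  haveI : LocallyOfFiniteType (D.ι ≫ pullback.fst tp m ≫ tp) := inferInstance
  have hpt : ∀ t : D.toScheme, IsClosed ({t} : Set D.toScheme) → (D.ι ≫ pullback.snd tp m) t = μ v →
      ∃ z, IsClosed ({z} : Set ↥(CohB1.ProjSpace 1 k)) ∧ (ψ ≫ h) z = ev t := by
    intro t htc htμ
    let Pt := pointOfClosedPoint (D.ι ≫ pullback.fst tp m ≫ tp) t htc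
    let Pv := pointOfClosedPoint (Q₀.ι ≫ a ≫ pX) v hvc
    have hPt : Pt ≫ D.ι ≫ pullback.fst tp m ≫ tp = 𝟙 _ := pointOfClosedPoint_comp _ t htc
    let c := Pt ≫ D.ι ≫ pullback.fst tp m
    have hc : c ≫ tp = 𝟙 _ := by simpa [c] using hPt
    have hPv : Pv ≫ μ = Pt ≫ D.ι ≫ pullback.snd tp m := by
      refine ext_of_apply_closedPoint_eq m ?_ ?_ ?_
      · rw [Category.assoc, hμ, hj₀, pointOfClosedPoint_comp]
      · simpa [← pullback.condition] using hPt
      · rw [Scheme.Hom.comp_apply, Scheme.Hom.comp_apply Pt, pointOfClosedPoint_apply, pointOfClosedPoint_apply, htμ]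
    have hcd : c ≫ tp = (Pv ≫ μ) ≫ m := by
      rw [hc, Category.assoc, hμ, hj₀, pointOfClosedPoint_comp]
    have hk := key _ c Pv hcd (c ≫ σv) (by rw [Category.assoc, hσv₁, Category.comp_id]) (by
        refine ext_of_apply_closedPoint_eq sb ?_ ?_ ?_
        · rw [Category.assoc, Category.assoc, ← pullback.condition]
          rw [← Category.assoc σv, hσv₁, Category.id_comp, hc]
        · rw [Category.assoc, hj₀, pointOfClosedPoint_comp]
        · show sP (σv (c cp)) = j₀ (Pv cp)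
          rw [hσv₂, pointOfClosedPoint_apply])
      Pt (by apply pullback.hom_ext <;> simp [c, hPv]) cp
    obtain ⟨hU, hφv⟩ := hk
    refine ⟨c cp, (pointEquivClosedPoint tp ⟨c, hc⟩).2, ?_⟩
    have hgψ : g (ψ (c cp)) = (c ≫ σv) cp := congr($(hψ).base (c cp))
    show h (ψ (c cp)) = ev t
    rw [hval _ (hgψ.symm ▸ hU)]
    exact ((congrArg φ (Subtype.ext hgψ)).trans hφv).trans (congrArg ev (pointOfClosedPoint_apply _ t htc _))
  obtain ⟨t₁, t₂, ht₁, ht₂, hm₁, hm₂, hne⟩ := hM₁ (μ v) (hbM v) hμc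
  obtain ⟨z₁, hz₁, he₁⟩ := hpt t₁ ht₁ hm₁
  obtain ⟨z₂, hz₂, he₂⟩ := hpt t₂ ht₂ hm₂
  exact hne (he₁ ▸ he₂ ▸ hu z₁ hz₁ z₂ hz₂)

end RatCurvExt
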